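import Groth.Agent.L02.An.Germ.Param
import Groth.Agent.L02.An.Hol
import Mathlib.Topology.Germ
import Mathlib.RingTheory.MvPolynomial.Ideal
import Mathlib.RingTheory.LocalRing.MaximalIdeal.Basic
import Mathlib.Algebra.MvPolynomial.Funext

/-!
The local ring of germs of holomorphic functions of n variables at the origin.
-/

noncomputable section

open Filter Topology Metric

namespace Groth.L02.An

/-- Holomorphic near the origin. -/
def Diff {n : ℕ} (f : (Fin n → ℂ) → ℂ) : Prop := ∀ᶠ z in 𝓝 0, DifferentiableAt ℂ f z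

/-- Germs of holomorphic functions at the origin of ℂⁿ. -/
def hol (n : ℕ) : Subring (Germ (𝓝 (0 : Fin n → ℂ)) ℂ) where
  carrier := {g | ∃ f : (Fin n → ℂ) → ℂ, Diff f ∧ (↑f : Germ (𝓝 (0 : Fin n → ℂ)) ℂ) = g}
  mul_mem' := by rintro _ _ ⟨f, hf, rfl⟩ ⟨g, hg, rfl⟩; exact ⟨f * g, (hf.and hg).mono fun z h => h.1.mul h.2, rfl⟩
  add_mem' := by rintro _ _ ⟨f, hf, rfl⟩ ⟨g, hg, rfl⟩; exact ⟨f + g, (hf.and hg).mono fun z h => h.1.add h.2, rfl⟩
  neg_mem' := by rintro _ ⟨f, hf, rfl⟩; exact ⟨-f, hf.mono fun z h => h.neg, rfl⟩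
  one_mem' := ⟨1, .of_forall fun _ => differentiableAt_const 1, rfl⟩
  zero_mem' := ⟨0, .of_forall fun _ => differentiableAt_const 0, rfl⟩

/-- The ring of germs of holomorphic functions at the origin of ℂⁿ. -/
abbrev O (n : ℕ) : Type := ↥(hol n)

variable {n m : ℕ}

/-- The germ of a holomorphic function. -/
def mk (f : (Fin n → ℂ) → ℂ) (hf : Diff f) : O n := ⟨↑f, f, hf, rfl⟩

theorem exists_mk (g : O n) : ∃ f hf, mk f hf = g := by
  obtain ⟨f, hf, e⟩ := g.2
  exact ⟨f, hf, Subtype.ext e⟩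

theorem mk_eq_iff {f g : (Fin n → ℂ) → ℂ} {hf : Diff f} {hg : Diff g} :
    mk f hf = mk g hg ↔ f =ᶠ[𝓝 0] g :=
  Subtype.ext_iff.trans Germ.coe_eq

theorem mk_add {f g : (Fin n → ℂ) → ℂ} (hf : Diff f) (hg : Diff g) :
    mk f hf + mk g hg = mk (f + g) ((hf.and hg).mono fun _ h => h.1.add h.2) := rfl

theorem mk_mul {f g : (Fin n → ℂ) → ℂ} (hf : Diff f) (hg : Diff g) :
    mk f hf * mk g hg = mk (f * g) ((hf.and hg).mono fun _ h => h.1.mul h.2) := rfl

/-- The value at the origin. -/
def ev0 : O n →+* ℂ := Germ.valueRingHom.comp (hol n).subtype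

@[simp] theorem ev0_mk (f : (Fin n → ℂ) → ℂ) (hf : Diff f) : ev0 (mk f hf) = f 0 := rfl

/-- The germ of a constant. -/
def cst : ℂ →+* O n where
  toFun c := mk (fun _ => c) (.of_forall fun _ => differentiableAt_const c)
  map_one' := rfl
  map_mul' _ _ := rfl
  map_zero' := rfl
  map_add' _ _ := rfl

instance algebra : Algebra ℂ (O n) := cst.toAlgebra

@[simp] theorem ev0_cst (c : ℂ) : ev0 (cst c : O n) = c := rfl

theorem diff_eval (p : MvPolynomial (Fin n) ℂ) : Diff fun z => MvPolynomial.eval z p :=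
  .of_forall fun z => differentiable_eval p z

/-- The germ of a polynomial. -/
def ofPoly : MvPolynomial (Fin n) ℂ →+* O n where
  toFun p := mk (fun z => MvPolynomial.eval z p) (diff_eval p)
  map_one' := Subtype.ext (Germ.coe_eq.mpr (.of_forall fun z => map_one _))
  map_mul' p q := Subtype.ext (Germ.coe_eq.mpr (.of_forall fun z => map_mul (MvPolynomial.eval z) p q))
  map_zero' := Subtype.ext (Germ.coe_eq.mpr (.of_forall fun z => map_zero _))
  map_add' p q := Subtype.ext (Germ.coe_eq.mpr (.of_forall fun z => map_add (MvPolynomial.eval z) p q))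

theorem ofPoly_apply (p : MvPolynomial (Fin n) ℂ) :
    ofPoly p = mk (fun z => MvPolynomial.eval z p) (diff_eval p) := rfl

theorem ofPoly_C (c : ℂ) : ofPoly (MvPolynomial.C c : MvPolynomial (Fin n) ℂ) = cst c :=
  Subtype.ext (Germ.coe_eq.mpr (.of_forall fun z => MvPolynomial.eval_C c))

/-- The coordinates. -/
def coo (i : Fin n) : O n := ofPoly (MvPolynomial.X i)

theorem isUnit_iff (g : O n) : IsUnit g ↔ ev0 g ≠ 0 := by
  refine ⟨fun h => (h.map ev0).ne_zero, fun h => ?_⟩
  obtain ⟨f, hf, rfl⟩ := exists_mk g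
  have hne : ∀ᶠ z in 𝓝 (0 : Fin n → ℂ), f z ≠ 0 := (hf.self_of_nhds.continuousAt).eventually_ne h
  refine IsUnit.of_mul_eq_one (mk (fun z => (f z)⁻¹) ((hf.and hne).mono fun z hz => hz.1.fun_inv hz.2)) ?_
  exact Subtype.ext (Germ.coe_eq.mpr (hne.mono fun z hz => mul_inv_cancel₀ hz))

instance nontrivial : Nontrivial (O n) := RingHom.domain_nontrivial (ev0 (n := n))

instance isLocalRing : IsLocalRing (O n) :=
  IsLocalRing.of_nonunits_add fun a b ha hb => by
    rw [mem_nonunits_iff, isUnit_iff, not_not] at *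
    rw [map_add, ha, hb, add_zero]

theorem mem_maximalIdeal_iff (g : O n) : g ∈ IsLocalRing.maximalIdeal (O n) ↔ ev0 g = 0 := by
  rw [IsLocalRing.mem_maximalIdeal, mem_nonunits_iff, isUnit_iff, not_not]

/-- Cauchy's formula for a difference quotient. -/
theorem circleIntegral_dslope {f : ℂ → ℂ} {r : ℝ} (hf : DifferentiableOn ℂ f (closedBall 0 r))
    {w : ℂ} (hw : w ∈ ball (0 : ℂ) r) :
    w * ((2 * Real.pi * Complex.I)⁻¹ * ∮ ζ in C(0, r), f ζ / (ζ * (ζ - w))) = f w - f 0 := by
  have hr : 0 < r := (norm_nonneg w).trans_lt (by simpa using hw)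
  have h1 := hf.circleIntegral_sub_inv_smul hw
  have h2 := hf.circleIntegral_sub_inv_smul (w := 0) (mem_ball_self hr)
  simp only [smul_eq_mul] at h1 h2
  have hint : ∀ u ∈ ball (0 : ℂ) r, CircleIntegrable (fun ζ => (ζ - u)⁻¹ * f ζ) 0 r := fun u hu =>
    ContinuousOn.circleIntegrable hr.le (ContinuousOn.mul
      ((continuousOn_id.sub continuousOn_const).inv₀ fun ζ hζ => sub_ne_zero.mpr fun h => by
        rw [show ζ = u from h] at hζ
        simp only [mem_sphere, dist_zero_right] at hζ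
        simp only [mem_ball, dist_zero_right] at hu
        linarith)
      (hf.continuousOn.mono sphere_subset_closedBall))
  have h3 := circleIntegral.integral_sub (hint w hw) (hint 0 (mem_ball_self hr))
  rw [h1, h2, ← mul_sub] at h3
  have h4 : (∮ ζ in C(0, r), ((ζ - w)⁻¹ * f ζ - (ζ - 0)⁻¹ * f ζ)) =
      w * ∮ ζ in C(0, r), f ζ / (ζ * (ζ - w)) := by
    rw [← circleIntegral.integral_const_mul]
    refine circleIntegral.integral_congr hr.le fun ζ hζ => ?_
    simp only [mem_sphere, dist_zero_right] at hζ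
    simp only [mem_ball, dist_zero_right] at hw
    have hζ0 : ζ ≠ 0 := fun h => by rw [h, norm_zero] at hζ; linarith
    have hζw : ζ - w ≠ 0 := sub_ne_zero.mpr fun h => by rw [h] at hζ; linarith
    field_simp
    ring
  rw [h4] at h3
  rw [mul_left_comm, h3, inv_mul_cancel_left₀ (by simp)]

/-- Hadamard's lemma. -/
theorem exists_hadamard (f : (Fin n → ℂ) → ℂ) (hf : Diff f) :
    ∃ g : Fin n → O n, mk f hf - cst (f 0) = ∑ i, coo i * g i := by
  obtain ⟨R, hR, hfR⟩ := Metric.eventually_nhds_iff_ball.mp hf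
  have hfd : DifferentiableOn ℂ f (ball 0 R) := fun z hz => (hfR z hz).differentiableWithinAt
  set r := R / 2
  have hr : 0 < r := by positivity
  let Z : ℕ → (Fin n → ℂ) → Fin n → ℂ := fun k z j => if (j : ℕ) < k then z j else 0
  let g : Fin n → (Fin n → ℂ) → ℂ := fun i z =>
    (2 * Real.pi * Complex.I)⁻¹ * ∮ ζ in C(0, r), f (Function.update (Z i z) i ζ) / (ζ * (ζ - z i))
  have hupd : ∀ (i : Fin n) (z : Fin n → ℂ) (ζ : ℂ), ‖z‖ ≤ r → ‖ζ‖ ≤ r →
      Function.update (Z i z) i ζ ∈ ball (0 : Fin n → ℂ) R := fun i z ζ hz hζ => by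
    have : ‖Function.update (Z i z) i ζ‖ ≤ r := (pi_norm_le_iff_of_nonneg hr.le).mpr fun j => by
      rcases eq_or_ne j i with rfl | hj
      · simpa using hζ
      · rw [Function.update_of_ne hj]
        simp only [Z]
        split_ifs
        · exact (norm_le_pi_norm z j).trans hz
        · simpa using hr.le
    rw [mem_ball_zero_iff]
    exact this.trans_lt (half_lt_self hR)
  have hupdd : ∀ (i : Fin n), Differentiable ℂ fun p : (Fin n → ℂ) × ℂ => Function.update (Z i p.1) i p.2 := by
    intro i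
    refine differentiable_pi.mpr fun j => ?_
    rcases eq_or_ne j i with rfl | hj
    · simp only [Function.update_self]; fun_prop
    · simp only [Function.update_of_ne hj, Z]
      split_ifs <;> fun_prop
  have hgd : ∀ (i : Fin n) (z : Fin n → ℂ), ‖z‖ < r → DifferentiableAt ℂ (g i) z := by
    intro i z hz
    have hsub : ∀ x ∈ ball z (r - ‖z‖), ‖x‖ < r := fun x hx => by
      have := norm_le_norm_add_norm_sub' x z
      rw [mem_ball, dist_eq_norm] at hx
      linarith
    have hne : ∀ x ∈ ball z (r - ‖z‖), ∀ ζ ∈ sphere (0 : ℂ) r, ζ * (ζ - x i) ≠ 0 := fun x hx ζ hζ => by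
      rw [mem_sphere_zero_iff_norm] at hζ
      refine mul_ne_zero (fun h => by rw [h, norm_zero] at hζ; linarith) (sub_ne_zero.mpr fun h => ?_)
      have := (norm_le_pi_norm x i).trans_lt (hsub x hx)
      rw [← h] at this; linarith
    refine (differentiableAt_circleIntegral (R := r - ‖z‖) (by linarith) hr.le (fun ζ hζ => ?_) ?_).const_mul _
    · refine DifferentiableOn.fun_mul ?_ (DifferentiableOn.fun_inv ?_ fun x hx => hne x hx ζ hζ)
      · exact hfd.comp ((hupdd i).comp (differentiable_id.prodMk (differentiable_const ζ))).differentiableOn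
          fun x hx => hupd i x ζ (hsub x hx).le (by simpa using (mem_sphere.mp hζ).le)
      · fun_prop
    · refine ContinuousOn.div ?_ (by fun_prop) fun p hp => hne p.1 hp.1 p.2 hp.2
      exact hfd.continuousOn.comp (hupdd i).continuous.continuousOn fun p hp =>
        hupd i p.1 p.2 (hsub p.1 hp.1).le (by simpa using (mem_sphere.mp hp.2).le)
  have hgD : ∀ i, Diff (g i) := fun i =>
    Metric.eventually_nhds_iff_ball.mpr ⟨r, hr, fun z hz => hgd i z (by simpa using hz)⟩
  refine ⟨fun i => mk (g i) (hgD i), Subtype.ext ?_⟩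
  simp only [AddSubgroupClass.coe_sub, AddSubmonoidClass.coe_finsetSum]
  have hsum : ((∑ i, ((coo i * mk (g i) (hgD i) : O n) : Germ (𝓝 (0 : Fin n → ℂ)) ℂ))) =
      Germ.ofFun (∑ i, fun z : Fin n → ℂ => z i * g i z) := by
    rw [← Germ.coe_coeRingHom, map_sum]
    exact Finset.sum_congr rfl fun i _ => Germ.coe_eq.mpr (.of_forall fun z => by simp)
  rw [hsum]
  refine Germ.coe_eq.mpr (Metric.eventually_nhds_iff_ball.mpr ⟨r, hr, fun z hz => ?_⟩)
  rw [mem_ball_zero_iff] at hz
  have htel : ∀ i : Fin n, z i * g i z = f (Z (i + 1) z) - f (Z i z) := fun i => by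
    have h1 := circleIntegral_dslope (f := fun ζ => f (Function.update (Z i z) i ζ)) (r := r) (w := z i)
      (hfd.comp ((hupdd i).comp ((differentiable_const z).prodMk differentiable_id)).differentiableOn
        fun ζ hζ => hupd i z ζ hz.le (by simpa using hζ))
      (by simpa using (norm_le_pi_norm z i).trans_lt hz)
    rw [show z i * g i z = _ from h1]
    congr 2 <;> funext j
    · rcases eq_or_ne j i with rfl | hj
      · simp [Z]
      · rw [Function.update_of_ne hj]
        have : (j : ℕ) ≠ i := fun h => hj (Fin.ext h)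
        simp only [Z]
        split_ifs <;> first | rfl | omega
    · rcases eq_or_ne j i with rfl | hj
      · simp [Z]
      · rw [Function.update_of_ne hj]
  show f z - f 0 = (∑ i, fun z : Fin n → ℂ => z i * g i z) z
  rw [Finset.sum_apply]
  simp only [htel]
  rw [Fin.sum_univ_eq_sum_range (fun k => f (Z (k + 1) z) - f (Z k z)) n,
    Finset.sum_range_sub fun k => f (Z k z)]
  congr 2 <;> funext j <;> simp [Z]

theorem maximalIdeal_eq_span : IsLocalRing.maximalIdeal (O n) = Ideal.span (Set.range coo) := by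
  refine le_antisymm (fun g hg => ?_) (Ideal.span_le.mpr ?_)
  · obtain ⟨f, hf, rfl⟩ := exists_mk g
    rw [mem_maximalIdeal_iff, ev0_mk] at hg
    obtain ⟨G, hG⟩ := exists_hadamard f hf
    rw [hg, map_zero, sub_zero] at hG
    rw [hG]
    exact sum_mem fun i _ => Ideal.mul_mem_right _ _ (Ideal.subset_span ⟨i, rfl⟩)
  · rintro _ ⟨i, rfl⟩
    rw [SetLike.mem_coe, mem_maximalIdeal_iff]
    exact MvPolynomial.eval_X i

theorem map_idealOfVars : (MvPolynomial.idealOfVars (Fin n) ℂ).map ofPoly = IsLocalRing.maximalIdeal (O n) := by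
  rw [maximalIdeal_eq_span]
  show (Ideal.span (Set.range (MvPolynomial.X : Fin n → MvPolynomial (Fin n) ℂ))).map ofPoly = _
  rw [Ideal.map_span, ← Set.range_comp]
  rfl

/-- Every germ is a polynomial up to any power of the maximal ideal. -/
theorem exists_poly_sub_mem (k : ℕ) (g : O n) :
    ∃ p, g - ofPoly p ∈ IsLocalRing.maximalIdeal (O n) ^ k := by
  induction k generalizing g with
  | zero => exact ⟨0, by simp⟩
  | succ k ih =>
    obtain ⟨f, hf, rfl⟩ := exists_mk g
    obtain ⟨G, hG⟩ := exists_hadamard f hf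
    choose p hp using fun i => ih (G i)
    refine ⟨MvPolynomial.C (f 0) + ∑ i, MvPolynomial.X i * p i, ?_⟩
    rw [map_add, ofPoly_C, map_sum, ← sub_sub, hG, ← Finset.sum_sub_distrib]
    refine sum_mem fun i _ => ?_
    rw [map_mul, ← coo, ← mul_sub, pow_succ']
    exact Ideal.mul_mem_mul (by rw [maximalIdeal_eq_span]; exact Ideal.subset_span ⟨i, rfl⟩) (hp i)

theorem eventually_norm_le_of_mem_pow {k : ℕ} {g : O n} (hg : g ∈ IsLocalRing.maximalIdeal (O n) ^ k)
    (f : (Fin n → ℂ) → ℂ) (hf : (g : Germ (𝓝 (0 : Fin n → ℂ)) ℂ) = ↑f) :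
    ∃ C : ℝ, ∀ᶠ z in 𝓝 0, ‖f z‖ ≤ C * ‖z‖ ^ k := by
  induction k generalizing g f with
  | zero =>
    obtain ⟨f', hf', rfl⟩ := exists_mk g
    refine ⟨‖f' 0‖ + 1, ?_⟩
    filter_upwards [(hf'.self_of_nhds.continuousAt.norm.eventually (gt_mem_nhds (lt_add_one _))),
      (Germ.coe_eq.mp hf : f' =ᶠ[𝓝 0] f)] with z hz he
    rw [← he, pow_zero, mul_one]
    exact hz.le
  | succ k ih =>
    rw [pow_succ'] at hg
    revert f
    refine Submodule.smul_induction_on hg (fun a ha b hb f hf => ?_) (fun a b ha hb f hf => ?_)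
    ·
      rw [maximalIdeal_eq_span] at ha
      obtain ⟨c, hc⟩ := (Ideal.mem_span_range_iff_exists_fun).mp ha
      choose fc hfc hfc' using fun i => exists_mk (c i)
      obtain ⟨fb, hfb, rfl⟩ := exists_mk b
      obtain ⟨C, hC⟩ := ih hb fb rfl
      have hfeq : f =ᶠ[𝓝 0] fun z => (∑ i, fc i z * z i) * fb z := by
        refine Germ.coe_eq.mp (hf.symm.trans ?_)
        rw [← hc, smul_eq_mul]
        simp only [← hfc', coo, ofPoly_apply, MulMemClass.coe_mul, AddSubmonoidClass.coe_finsetSum]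
        show (∑ i, (↑(fc i) : Germ (𝓝 (0 : Fin n → ℂ)) ℂ) * _) * _ = _
        simp only [mk, ← Germ.coe_coeRingHom, ← map_mul, ← map_sum]
        exact Germ.coe_eq.mpr (.of_forall fun z => by simp [Finset.sum_apply])
      refine ⟨(∑ i, (‖fc i 0‖ + 1)) * C, ?_⟩
      have hb' : ∀ᶠ z in 𝓝 (0 : Fin n → ℂ), ∀ i, ‖fc i z‖ ≤ ‖fc i 0‖ + 1 := eventually_all.mpr fun i =>
        ((hfc i).self_of_nhds.continuousAt.norm.eventually (gt_mem_nhds (lt_add_one _))).mono fun z hz => hz.le
      filter_upwards [hfeq, hb', hC] with z hz hz' hzC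
      rw [hz, norm_mul, pow_succ']
      calc ‖∑ i, fc i z * z i‖ * ‖fb z‖ ≤ ((∑ i, (‖fc i 0‖ + 1)) * ‖z‖) * (C * ‖z‖ ^ k) := by
            refine mul_le_mul ?_ hzC (norm_nonneg _) (by positivity)
            rw [Finset.sum_mul]
            refine (norm_sum_le _ _).trans (Finset.sum_le_sum fun i _ => ?_)
            rw [norm_mul]
            exact mul_le_mul (hz' i) (norm_le_pi_norm z i) (norm_nonneg _) (by positivity)
        _ = _ := by ring
    ·
      obtain ⟨fa, hfa, rfl⟩ := exists_mk a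
      obtain ⟨fb, hfb, rfl⟩ := exists_mk b
      obtain ⟨C₁, h₁⟩ := ha fa rfl
      obtain ⟨C₂, h₂⟩ := hb fb rfl
      refine ⟨C₁ + C₂, ?_⟩
      filter_upwards [h₁, h₂, (Germ.coe_eq.mp hf : fa + fb =ᶠ[𝓝 0] f)] with z hz₁ hz₂ he
      rw [← he, add_mul]
      exact (norm_add_le _ _).trans (add_le_add hz₁ hz₂)

/-- A polynomial vanishing to order k at the origin has no terms of degree less than k. -/
theorem mem_pow_of_growth (p : MvPolynomial (Fin n) ℂ) (k : ℕ) (C : ℝ)
    (h : ∀ᶠ z in 𝓝 0, ‖MvPolynomial.eval z p‖ ≤ C * ‖z‖ ^ k) :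
    p ∈ MvPolynomial.idealOfVars (Fin n) ℂ ^ k := by
  rw [MvPolynomial.mem_pow_idealOfVars_iff]
  by_contra hcon
  push Not at hcon
  obtain ⟨d, hd, hdk⟩ := hcon
  have hN : ∀ v : Fin n → ℂ, ∀ j < k, MvPolynomial.eval v (MvPolynomial.homogeneousComponent j p) = 0 := by
    intro v
    let L : Polynomial ℂ := ∑ j ∈ Finset.range (p.totalDegree + 1),
      Polynomial.monomial j (MvPolynomial.eval v (MvPolynomial.homogeneousComponent j p))
    have hL : ∀ t : ℂ, L.eval t = MvPolynomial.eval (t • v) p := by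
      intro t
      conv_rhs => rw [← MvPolynomial.sum_homogeneousComponent p]
      rw [map_sum]
      simp only [L, Polynomial.eval_finsetSum, Polynomial.eval_monomial]
      refine Finset.sum_congr rfl fun j _ => ?_
      rw [MvPolynomial.eval_eq', MvPolynomial.eval_eq', Finset.sum_mul]
      refine Finset.sum_congr rfl fun e he => ?_
      have hdeg := (MvPolynomial.homogeneousComponent_isHomogeneous j p) (MvPolynomial.mem_support_iff.mp he)
      rw [Finsupp.weight_apply, Finsupp.sum_fintype _ _ (by simp)] at hdeg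
      simp only [Pi.one_apply, smul_eq_mul, mul_one] at hdeg
      simp only [Pi.smul_apply, smul_eq_mul, mul_pow, Finset.prod_mul_distrib, Finset.prod_pow_eq_pow_sum, hdeg]
      ring
    have hev : ∀ᶠ t : ℂ in 𝓝[≠] 0, ‖L.eval t‖ ≤ (C * ‖v‖ ^ k) * ‖t‖ ^ k := by
      have hc : Tendsto (fun t : ℂ => t • v) (𝓝 0) (𝓝 0) := by
        simpa using (show Continuous fun t : ℂ => t • v by fun_prop).tendsto 0
      refine nhdsWithin_le_nhds ((hc.eventually h).mono fun t ht => ?_)
      rw [hL]
      refine ht.trans (le_of_eq ?_)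
      rw [norm_smul, mul_pow]; ring
    have key : ∀ j < k, L.coeff j = 0 := by
      intro j
      induction j using Nat.strong_induction_on with
      | _ j ihj =>
        intro hj
        obtain ⟨q, hq⟩ : Polynomial.X ^ j ∣ L := Polynomial.X_pow_dvd_iff.mpr fun i hi => ihj i hi (hi.trans hj)
        have h0 : Tendsto (fun t => q.eval t) (𝓝[≠] 0) (𝓝 0) := by
          refine squeeze_zero_norm' (a := fun t : ℂ => (C * ‖v‖ ^ k) * ‖t‖ ^ (k - j)) ?_ ?_
          · filter_upwards [hev, self_mem_nhdsWithin] with t ht ht0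
            rw [hq, Polynomial.eval_mul, Polynomial.eval_pow, Polynomial.eval_X, norm_mul, norm_pow,
              show k = j + (k - j) by omega, pow_add ‖t‖] at ht
            rw [show k = j + (k - j) by omega, show j + (k - j) - j = k - j by omega]
            have : 0 < ‖t‖ ^ j := pow_pos (norm_pos_iff.mpr ht0) _
            nlinarith
          · have : Continuous fun t : ℂ => (C * ‖v‖ ^ k) * ‖t‖ ^ (k - j) := by fun_prop
            simpa [show k - j ≠ 0 by omega] using this.tendsto 0 |>.mono_left nhdsWithin_le_nhds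
        have h1 : q.eval 0 = 0 :=
          tendsto_nhds_unique (q.continuous.tendsto 0 |>.mono_left nhdsWithin_le_nhds) h0
        have h2 := Polynomial.coeff_mul_X_pow q j 0
        rw [zero_add] at h2
        rw [hq, mul_comm, h2, Polynomial.coeff_zero_eq_eval_zero, h1]
    intro j hj
    have h1 := key j hj
    simp only [L, Polynomial.finsetSum_coeff, Polynomial.coeff_monomial, Finset.sum_ite_eq',
      Finset.mem_range] at h1
    by_cases hjd : j < p.totalDegree + 1
    · rwa [if_pos hjd] at h1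
    · rw [MvPolynomial.homogeneousComponent_eq_zero _ _ (by omega), map_zero]
  have h0 : MvPolynomial.homogeneousComponent d.degree p = 0 :=
    MvPolynomial.funext fun v => by rw [hN v _ hdk, map_zero]
  have h1 := congrArg (MvPolynomial.coeff d) h0
  rw [MvPolynomial.coeff_homogeneousComponent, if_pos rfl, MvPolynomial.coeff_zero] at h1
  exact MvPolynomial.mem_support_iff.mp hd h1

theorem mem_pow_of_ofPoly_mem {p : MvPolynomial (Fin n) ℂ} {k : ℕ}
    (h : ofPoly p ∈ IsLocalRing.maximalIdeal (O n) ^ k) : p ∈ MvPolynomial.idealOfVars (Fin n) ℂ ^ k := by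
  obtain ⟨C, hC⟩ := eventually_norm_le_of_mem_pow h (fun z => MvPolynomial.eval z p) rfl
  exact mem_pow_of_growth p k C hC

end Groth.L02.An
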