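import Groth.Agent.L02.An.Germ.FlatBij
import Groth.Agent.L06.FormalFibres
import Groth.Agent.L06.GRingFT
import Groth.Agent.L04.RegularPd
import Groth.Agent.S9438

/-!
Transfer of Serre's conditions along a map of local rings with bijective completion map and regular formal fibres.
-/

noncomputable section

open IsLocalRing TensorProduct Groth.L06

namespace Groth.L02.An

section Completion

variable {R B : Type} [CommRing R] [CommRing B] [IsLocalRing R] [IsLocalRing B] [Algebra R B]
  (hm : (maximalIdeal R).map (algebraMap R B) = maximalIdeal B)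
  (hsurj : ∀ (k : ℕ) (b : B), ∃ a : R, b - algebraMap R B a ∈ maximalIdeal B ^ k)
  (hinj : ∀ (k : ℕ) (a : R), algebraMap R B a ∈ maximalIdeal B ^ k → a ∈ maximalIdeal R ^ k)

include hsurj hinj in
theorem bijective_mapCompletion :
    Function.Bijective (GRingTransport.mapCompletion (algebraMap R B) (maximalIdeal R) (maximalIdeal B) hm.le) := by
  refine ⟨(injective_iff_map_eq_zero _).mpr fun x hx => AdicCompletion.ext_evalₐ fun n => ?_, fun z => ?_⟩
  · obtain ⟨a, ha⟩ := Ideal.Quotient.mk_surjective (AdicCompletion.evalₐ (maximalIdeal R) n x)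
    have h1 := GRingTransport.evalₐ_mapCompletion _ _ _ hm.le n x a ha.symm
    rw [hx, map_zero] at h1
    rw [map_zero, ← ha, Ideal.Quotient.eq_zero_iff_mem]
    exact hinj n a (Ideal.Quotient.eq_zero_iff_mem.mp h1.symm)
  · choose b hb using fun n => Ideal.Quotient.mk_surjective (AdicCompletion.evalₐ (maximalIdeal B) n z)
    choose a ha using fun n => hsurj n (b n)
    have hab : ∀ n, Ideal.Quotient.mk _ (algebraMap R B (a n)) = AdicCompletion.evalₐ (maximalIdeal B) n z :=
      fun n => (Ideal.Quotient.eq.mpr (ha n)).symm.trans (hb n)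
    have hc : AdicCompletion.IsAdicCauchy (maximalIdeal R) R a := by
      intro m n hmn
      rw [SModEq.sub_mem, smul_eq_mul, Ideal.mul_top]
      refine hinj m _ ?_
      rw [map_sub, ← Ideal.Quotient.eq, hab m]
      have h2 : Ideal.Quotient.factorPow (maximalIdeal B) hmn (AdicCompletion.evalₐ (maximalIdeal B) n z) =
          AdicCompletion.evalₐ (maximalIdeal B) m z := by
        obtain ⟨c, rfl⟩ := AdicCompletion.mk_surjective (maximalIdeal B) B z
        rw [AdicCompletion.evalₐ_mk, AdicCompletion.evalₐ_mk, Ideal.Quotient.factor_mk, Ideal.Quotient.eq]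
        have := c.2 hmn
        rw [SModEq.sub_mem, smul_eq_mul, Ideal.mul_top] at this
        simpa using neg_mem this
      rw [← hab n, Ideal.Quotient.factor_mk] at h2
      exact h2.symm
    refine ⟨AdicCompletion.mk (maximalIdeal R) R ⟨a, hc⟩, AdicCompletion.ext_evalₐ fun n => ?_⟩
    rw [GRingTransport.evalₐ_mapCompletion _ _ _ hm.le n _ (a n) (AdicCompletion.evalₐ_mk _ _ _)]
    exact hab n

include hm hsurj hinj in
theorem isRegularHom_cpl (hG : CAlg.IsRegularHom R (EGA4.Cpl R)) : CAlg.IsRegularHom R (EGA4.Cpl B) :=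
  GRingTransport.isRegularHom_of_ringEquiv (RingEquiv.refl R)
    (RingEquiv.ofBijective _ (bijective_mapCompletion hm hsurj hinj))
    (fun r => GRingTransport.mapCompletion_algebraMap (algebraMap R B) _ _ hm.le r) hG

end Completion

theorem hasRk_of_flat {R S : Type} [CommRing R] [CommRing S] [Algebra R S] [IsNoetherianRing S]
    [Module.Flat R S] (k : ℕ) (hR : LocCoh.HasRk k R)
    (hfib : ∀ (p : Ideal R) [p.IsPrime], IsRegularRing (p.Fiber S)) [IsNoetherianRing R] :
    LocCoh.HasRk k S := by
  intro P _ hP
  obtain ⟨i, hl, hf, q, hq, ⟨e⟩⟩ := FlatFibre.exists_local_fibre (P.comap (algebraMap R S)) P (S := S)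
  let _ := i
  have := hl
  have := hf
  have := hfib (P.comap (algebraMap R S))
  have : IsRegularLocalRing (EGA4.FibRing (Localization.AtPrime (P.comap (algebraMap R S))) (Localization.AtPrime P)) :=
    IsRegularLocalRing.of_ringEquiv (R := Localization.AtPrime q) e
  have : IsRegularLocalRing (Localization.AtPrime (P.comap (algebraMap R S))) := by
    refine hR _ (le_trans ?_ hP)
    have : P.LiesOver (P.comap (algebraMap R S)) := ⟨rfl⟩
    rw [Ideal.height_eq_height_add_of_liesOver_of_hasGoingDown (P.comap (algebraMap R S)) P]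
    exact le_self_add
  exact FormalFibres.regular_of_flat (Localization.AtPrime (P.comap (algebraMap R S))) (Localization.AtPrime P)

theorem isRegularRing_fiber {R S : Type} [CommRing R] [CommRing S] [Algebra R S]
    (h : CAlg.IsRegularHom R S) (p : Ideal R) [p.IsPrime] : IsRegularRing (p.Fiber S) := by
  have := (h.2 p).2 p.ResidueField inferInstance
  exact IsRegularRing.of_ringEquiv (R := p.ResidueField ⊗[p.ResidueField] p.Fiber S)
    (Algebra.TensorProduct.lid p.ResidueField (p.Fiber S)).toRingEquiv

section Transfer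

variable {R B : Type} [CommRing R] [CommRing B] [IsLocalRing R] [IsLocalRing B] [IsNoetherianRing R]
  [IsNoetherianRing B] [Algebra R B]
  (hm : (maximalIdeal R).map (algebraMap R B) = maximalIdeal B)
  (hsurj : ∀ (k : ℕ) (b : B), ∃ a : R, b - algebraMap R B a ∈ maximalIdeal B ^ k)
  (hinj : ∀ (k : ℕ) (a : R), algebraMap R B a ∈ maximalIdeal B ^ k → a ∈ maximalIdeal R ^ k)
  (hG : CAlg.IsRegularHom R (EGA4.Cpl R))

include hm hsurj hinj

theorem faithfullyFlat_of_bijective_pow : Module.FaithfullyFlat R B := by
  have := flat_of_bijective_pow hm.le hsurj hinj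
  exact Groth.L05.Henselization.faithfullyFlat_of_map_maximalIdeal R B hm

include hG

theorem hasSk_iff_of_cpl (k : ℕ) : LocCoh.HasSk k R R ↔ LocCoh.HasSk k B B := by
  have := faithfullyFlat_of_bijective_pow hm hsurj hinj
  have h := isRegularHom_cpl hm hsurj hinj hG
  have : IsNoetherianRing (EGA4.Cpl B) := Groth.Agent.S0543.result B _
  have := NormalAscent.faithfullyFlat_cpl B
  have : Module.Flat R (EGA4.Cpl B) := h.1
  refine ⟨fun hR => FlatFibre.hasSk_base_of_faithfullyFlat (R := B) (S := EGA4.Cpl B) k
    (FlatFibre.hasSk_of_flat k hR fun p _ => ?_), FlatFibre.hasSk_base_of_faithfullyFlat (R := R) (S := B) k⟩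
  have := isRegularRing_fiber h p
  exact FormalFibres.cm_iff_forall_hasSk.mp Groth.L04.isCohenMacaulayRing_of_regularRing k

theorem hasRk_iff_of_cpl (k : ℕ) : LocCoh.HasRk k R ↔ LocCoh.HasRk k B := by
  have := faithfullyFlat_of_bijective_pow hm hsurj hinj
  have h := isRegularHom_cpl hm hsurj hinj hG
  have : IsNoetherianRing (EGA4.Cpl B) := Groth.Agent.S0543.result B _
  have := NormalAscent.faithfullyFlat_cpl B
  have : Module.Flat R (EGA4.Cpl B) := h.1
  exact ⟨fun hR => (Groth.Agent.S9438.result k B (EGA4.Cpl B)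
    (hasRk_of_flat k hR fun p _ => isRegularRing_fiber h p)).2,
    fun hB => (Groth.Agent.S9438.result k R B hB).2⟩

theorem normal_iff_of_cpl :
    (IsDomain R ∧ IsIntegrallyClosed R) ↔ (IsDomain B ∧ IsIntegrallyClosed B) := by
  have := faithfullyFlat_of_bijective_pow hm hsurj hinj
  have h := isRegularHom_cpl hm hsurj hinj hG
  have : IsNoetherianRing (EGA4.Cpl B) := Groth.Agent.S0543.result B _
  have := NormalAscent.faithfullyFlat_cpl B
  have : Module.Flat R (EGA4.Cpl B) := h.1
  constructor
  · rintro ⟨hd, hc⟩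
    have hR : EGA4.IsNormalRing R := fun p _ =>
      ⟨IsLocalization.isDomain_localization p.primeCompl_le_nonZeroDivisors,
        isIntegrallyClosed_of_isLocalization _ p.primeCompl p.primeCompl_le_nonZeroDivisors⟩
    have hB : EGA4.IsNormalRing B := NormalAscent.isNormalRing_of_faithfullyFlat (S := EGA4.Cpl B)
      (NormalAscent.isNormalRing_of_flat hR fun p _ =>
        have := isRegularRing_fiber h p
        FormalFibres.isNormalRing_of_isRegularRing _)
    obtain ⟨hd', hc'⟩ := hB (maximalIdeal B)
    let e : B ≃+* Localization.AtPrime (maximalIdeal B) :=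
      (IsLocalization.atUnits B (maximalIdeal B).primeCompl fun u hu =>
        IsLocalRing.notMem_maximalIdeal.mp hu).toRingEquiv
    exact ⟨e.toMulEquiv.isDomain _, IsIntegrallyClosed.of_equiv e.symm⟩
  · rintro ⟨hd, hc⟩
    exact NormalAscent.isIntegrallyClosed_of_faithfullyFlat R B

end Transfer

end Groth.L02.An
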