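import Groth.Agent.L02.An.Germ.StalkRing
import Groth.Agent.L02.An.Germ.Transfer
import Groth.Agent.L06.CompleteGRing

/-!
Properties of the analytic local ring read off from the algebraic one.
-/

noncomputable section

open AlgebraicGeometry CategoryTheory TopologicalSpace IsLocalRing

namespace Groth.L02.An

open _root_.An

set_option backward.isDefEq.respectTransparency.types false

variable {X : Scheme.{0}} [X.Over SC]

theorem isGRing_stalk [LocallyOfFiniteType (X ↘ SC)] (x : Pts X) :
    CAlg.IsGRing (X.presheaf.stalk (Pts.pt x)) := by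
  obtain ⟨U, hU, hx⟩ := exists_affine_mem (X := X) x
  have : IsAdicComplete (maximalIdeal ℂ) ℂ := by
    rw [IsLocalRing.maximalIdeal_eq_bot]
    infer_instance
  let _ : Algebra ℂ Γ(X, U) := (str X U).toAlgebra
  have : Algebra.FiniteType ℂ Γ(X, U) := finiteType_str hU
  let _ := TopCat.Presheaf.algebra_section_stalk X.presheaf (⟨Pts.pt x, hx⟩ : U)
  have hloc := hU.isLocalization_stalk ⟨Pts.pt x, hx⟩
  exact Groth.L06.GRingFT.isGRing_localization (hU.primeIdealOf ⟨Pts.pt x, hx⟩).asIdeal.primeCompl _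
    (Groth.L06.GRingFT.isGRing_finiteType (A := ℂ) (Groth.L06.CompleteGRing.isGRing ℂ))

theorem isRegularHom_cpl_stalk [LocallyOfFiniteType (X ↘ SC)] (x : Pts X) :
    CAlg.IsRegularHom (X.presheaf.stalk (Pts.pt x)) (EGA4.Cpl (X.presheaf.stalk (Pts.pt x))) :=
  Groth.L06.GRingTransport.isRegularHom_completion_of_ringEquiv
    (IsLocalization.atUnits (X.presheaf.stalk (Pts.pt x)) (maximalIdeal (X.presheaf.stalk (Pts.pt x))).primeCompl
      (S := Localization.AtPrime (maximalIdeal (X.presheaf.stalk (Pts.pt x)))) fun u hu =>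
        IsLocalRing.notMem_maximalIdeal.mp hu).toRingEquiv.symm
    ((isGRing_stalk x).2 _)

/-- The hypotheses of the transfer statements hold for the comparison map. -/
theorem compare_data [LocallyOfFiniteType (X ↘ SC)] [IsReduced X] (x : Pts X) :
    (maximalIdeal (X.presheaf.stalk (Pts.pt x))).map (φ x) = maximalIdeal ((holPresheaf X).stalk (x : top X)) ∧
    (∀ (k : ℕ) (b : (holPresheaf X).stalk (x : top X)), ∃ a, b - φ x a ∈ maximalIdeal _ ^ k) ∧
    ∀ (k : ℕ) (a : X.presheaf.stalk (Pts.pt x)), φ x a ∈ maximalIdeal _ ^ k →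
      a ∈ maximalIdeal (X.presheaf.stalk (Pts.pt x)) ^ k := by
  obtain ⟨c⟩ := exists_chart x
  have hm := map_maximalIdeal_anStalk x
  refine ⟨hm, fun k b => ?_, fun k a h => ?_⟩
  · obtain ⟨a, ha⟩ := c.exists_sub_mem k b
    refine ⟨a, ?_⟩
    rw [← hm, c.map_maximalIdeal, ← neg_sub, neg_mem_iff]
    exact ha
  · rw [← hm, c.map_maximalIdeal] at h
    exact c.mem_pow_of_map_mem k a h

variable [LocallyOfFiniteType (X ↘ SC)] [IsReduced X] (x : Pts X)

theorem isNoetherianRing_stalk_pt : IsNoetherianRing (X.presheaf.stalk (Pts.pt x)) :=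
  (isGRing_stalk x).1

theorem ringKrullDim_eq :
    ringKrullDim (X.presheaf.stalk (Pts.pt x)) = ringKrullDim ((holPresheaf X).stalk (x : top X)) := by
  have := isNoetherianRing_stalk_pt x
  let _ := (φ x).toAlgebra
  obtain ⟨hm, hs, hi⟩ := compare_data x
  have := flat_of_bijective_pow (A := X.presheaf.stalk (Pts.pt x)) hm.le hs hi
  exact (Groth.L05.Henselization.ringKrullDim_eq_of_map_maximalIdeal _ _ hm).symm

theorem isRegularLocalRing_iff :
    IsRegularLocalRing (X.presheaf.stalk (Pts.pt x)) ↔ IsRegularLocalRing ((holPresheaf X).stalk (x : top X)) := by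
  have := isNoetherianRing_stalk_pt x
  let _ := (φ x).toAlgebra
  obtain ⟨hm, hs, hi⟩ := compare_data x
  have := flat_of_bijective_pow (A := X.presheaf.stalk (Pts.pt x)) hm.le hs hi
  exact Groth.L05.Henselization.isRegularLocalRing_iff_of_map_maximalIdeal _ _ hm

theorem isCohenMacaulayLocalRing_iff :
    LocCoh.IsCohenMacaulayLocalRing (X.presheaf.stalk (Pts.pt x)) ↔
      LocCoh.IsCohenMacaulayLocalRing ((holPresheaf X).stalk (x : top X)) := by
  have := isNoetherianRing_stalk_pt x
  let _ := (φ x).toAlgebra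
  obtain ⟨hm, hs, hi⟩ := compare_data x
  have := flat_of_bijective_pow (A := X.presheaf.stalk (Pts.pt x)) hm.le hs hi
  exact Groth.L05.Henselization.isCohenMacaulayLocalRing_iff_of_map_maximalIdeal _ _ hm

theorem hasSk_iff (k : ℕ) : LocCoh.HasSk k (X.presheaf.stalk (Pts.pt x)) (X.presheaf.stalk (Pts.pt x)) ↔
    LocCoh.HasSk k ((holPresheaf X).stalk (x : top X)) ((holPresheaf X).stalk (x : top X)) := by
  have := isNoetherianRing_stalk_pt x
  let _ := (φ x).toAlgebra
  obtain ⟨hm, hs, hi⟩ := compare_data x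
  exact hasSk_iff_of_cpl hm hs hi (isRegularHom_cpl_stalk x) k

theorem hasRk_iff (k : ℕ) : LocCoh.HasRk k (X.presheaf.stalk (Pts.pt x)) ↔
    LocCoh.HasRk k ((holPresheaf X).stalk (x : top X)) := by
  have := isNoetherianRing_stalk_pt x
  let _ := (φ x).toAlgebra
  obtain ⟨hm, hs, hi⟩ := compare_data x
  exact hasRk_iff_of_cpl hm hs hi (isRegularHom_cpl_stalk x) k

theorem normal_iff :
    (IsDomain (X.presheaf.stalk (Pts.pt x)) ∧ IsIntegrallyClosed (X.presheaf.stalk (Pts.pt x))) ↔
      (IsDomain ((holPresheaf X).stalk (x : top X)) ∧ IsIntegrallyClosed ((holPresheaf X).stalk (x : top X))) := by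
  have := isNoetherianRing_stalk_pt x
  let _ := (φ x).toAlgebra
  obtain ⟨hm, hs, hi⟩ := compare_data x
  exact normal_iff_of_cpl hm hs hi (isRegularHom_cpl_stalk x)

end Groth.L02.An
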