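import Groth.Agent.L02.An.Germ.Basic
import Mathlib.Analysis.Complex.AbsMax
import Mathlib.Analysis.SpecificLimits.Basic
import Mathlib.Analysis.Analytic.IsolatedZeros

/-!
Weierstrass division by Neumann series, and the Noetherianity of germs of holomorphic functions.
-/

noncomputable section

open Filter Topology Metric

namespace Groth.L02.An

variable {n : ℕ}

section operators

variable (r : ℝ) (s : ℕ)

/-- Taylor coefficient in the distinguished variable. -/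
def wCoeff (j : ℕ) (h : ℂ → (Fin n → ℂ) → ℂ) (z : Fin n → ℂ) : ℂ :=
  (2 * Real.pi * Complex.I)⁻¹ • ∮ ζ in C(0, r), h ζ z / ζ ^ (j + 1)

/-- Taylor polynomial in the distinguished variable. -/
def wRem (h : ℂ → (Fin n → ℂ) → ℂ) (w : ℂ) (z : Fin n → ℂ) : ℂ :=
  ∑ j ∈ Finset.range s, wCoeff r j h z * w ^ j

/-- Quotient by the power s of the distinguished variable. -/
def wQuot (h : ℂ → (Fin n → ℂ) → ℂ) (w : ℂ) (z : Fin n → ℂ) : ℂ :=
  if w = 0 then (2 * Real.pi * Complex.I)⁻¹ * ∮ ζ in C(0, r), h ζ z / (ζ ^ s * (ζ - w))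
  else (h w z - wRem r s h w z) / w ^ s

variable {r s} {ρ δ : ℝ}

theorem geom_key (ζ w : ℂ) (hζ : ζ ≠ 0) (hw : ζ - w ≠ 0) :
    (ζ - w)⁻¹ = (∑ j ∈ Finset.range s, w ^ j / ζ ^ (j + 1)) + w ^ s / (ζ ^ s * (ζ - w)) := by
  induction s with
  | zero => simp
  | succ s ih =>
    rw [ih, Finset.sum_range_succ, add_assoc]
    congr 1
    field_simp
    ring

theorem slice (h : ℂ → (Fin n → ℂ) → ℂ)
    (hh : DifferentiableOn ℂ (fun p : ℂ × (Fin n → ℂ) => h p.1 p.2) (ball 0 ρ ×ˢ ball 0 δ))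
    {z : Fin n → ℂ} (hz : z ∈ ball (0 : Fin n → ℂ) δ) : DifferentiableOn ℂ (h · z) (ball 0 ρ) :=
  hh.comp (f := fun w : ℂ => (w, z)) (differentiableOn_id.prodMk (differentiableOn_const z))
    fun w hw => ⟨hw, hz⟩

theorem pow_mul_wQuot_integral (h : ℂ → (Fin n → ℂ) → ℂ) (hr : 0 < r) (hρ : r < ρ)
    (hh : DifferentiableOn ℂ (fun p : ℂ × (Fin n → ℂ) => h p.1 p.2) (ball 0 ρ ×ˢ ball 0 δ))
    {z : Fin n → ℂ} (hz : z ∈ ball (0 : Fin n → ℂ) δ) {w : ℂ} (hw : w ∈ ball (0 : ℂ) r) :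
    w ^ s * ((2 * Real.pi * Complex.I)⁻¹ * ∮ ζ in C(0, r), h ζ z / (ζ ^ s * (ζ - w))) =
      h w z - wRem r s h w z := by
  have hd := (slice h hh hz).mono (closedBall_subset_ball hρ)
  have h1 := hd.circleIntegral_sub_inv_smul hw
  have hne : ∀ ζ ∈ sphere (0 : ℂ) r, ζ ≠ 0 ∧ ζ - w ≠ 0 := fun ζ hζ => by
    rw [mem_sphere_zero_iff_norm] at hζ
    rw [mem_ball_zero_iff] at hw
    exact ⟨fun e => by rw [e, norm_zero] at hζ; linarith, sub_ne_zero.mpr fun e => by rw [e] at hζ; linarith⟩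
  have hc := hd.continuousOn.mono sphere_subset_closedBall
  have hi1 : ∀ j ∈ Finset.range s, CircleIntegrable (fun ζ => w ^ j * (h ζ z / ζ ^ (j + 1))) 0 r := fun j _ =>
    ContinuousOn.circleIntegrable hr.le (continuousOn_const.mul (hc.div (by fun_prop)
      fun ζ hζ => pow_ne_zero _ (hne ζ hζ).1))
  have hi2 : CircleIntegrable (fun ζ => w ^ s * (h ζ z / (ζ ^ s * (ζ - w)))) 0 r :=
    ContinuousOn.circleIntegrable hr.le (continuousOn_const.mul (hc.div (by fun_prop)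
      fun ζ hζ => mul_ne_zero (pow_ne_zero _ (hne ζ hζ).1) (hne ζ hζ).2))
  have h2 : (∮ ζ in C(0, r), (ζ - w)⁻¹ • h ζ z) =
      (∑ j ∈ Finset.range s, w ^ j * ∮ ζ in C(0, r), h ζ z / ζ ^ (j + 1)) +
        w ^ s * ∮ ζ in C(0, r), h ζ z / (ζ ^ s * (ζ - w)) := by
    simp only [← circleIntegral.integral_const_mul]
    rw [← circleIntegral.integral_fun_sum hi1,
      ← circleIntegral.integral_add (CircleIntegrable.fun_sum _ hi1) hi2]
    refine circleIntegral.integral_congr hr.le fun ζ hζ => ?_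
    simp only [smul_eq_mul, geom_key (s := s) ζ w (hne ζ hζ).1 (hne ζ hζ).2, add_mul, Finset.sum_mul]
    congr 1
    · exact Finset.sum_congr rfl fun j _ => by ring
    · ring
  rw [h1, smul_eq_mul] at h2
  have hsum : (2 * Real.pi * Complex.I)⁻¹ * (∑ j ∈ Finset.range s, w ^ j * ∮ ζ in C(0, r), h ζ z / ζ ^ (j + 1)) =
      wRem r s h w z := by
    rw [Finset.mul_sum, wRem]
    exact Finset.sum_congr rfl fun j _ => by rw [wCoeff, smul_eq_mul]; ring
  rw [← hsum]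
  linear_combination (-(2 * Real.pi * Complex.I)⁻¹) * h2 +
    (h w z) * (inv_mul_cancel₀ (show (2 * Real.pi * Complex.I : ℂ) ≠ 0 by simp))

theorem pow_mul_wQuot (h : ℂ → (Fin n → ℂ) → ℂ) (hr : 0 < r) (hρ : r < ρ)
    (hh : DifferentiableOn ℂ (fun p : ℂ × (Fin n → ℂ) => h p.1 p.2) (ball 0 ρ ×ˢ ball 0 δ))
    {z : Fin n → ℂ} (hz : z ∈ ball (0 : Fin n → ℂ) δ) (w : ℂ) :
    w ^ s * wQuot r s h w z = h w z - wRem r s h w z := by
  unfold wQuot
  split_ifs with hw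
  · exact pow_mul_wQuot_integral h hr hρ hh hz (hw ▸ mem_ball_self hr)
  · exact mul_div_cancel₀ _ (pow_ne_zero _ hw)

theorem differentiableAt_wCoeff (h : ℂ → (Fin n → ℂ) → ℂ) (hr : 0 < r) (hρ : r < ρ)
    (hh : DifferentiableOn ℂ (fun p : ℂ × (Fin n → ℂ) => h p.1 p.2) (ball 0 ρ ×ˢ ball 0 δ))
    (j : ℕ) {z : Fin n → ℂ} (hz : z ∈ ball (0 : Fin n → ℂ) δ) :
    DifferentiableAt ℂ (wCoeff r j h) z := by
  obtain ⟨R, hR, hsub⟩ := Metric.isOpen_iff.mp isOpen_ball z hz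
  have hs : ∀ ζ ∈ sphere (0 : ℂ) r, ζ ∈ ball (0 : ℂ) ρ ∧ ζ ^ (j + 1) ≠ 0 := fun ζ hζ => by
    rw [mem_sphere_zero_iff_norm] at hζ
    exact ⟨by rw [mem_ball_zero_iff]; linarith, pow_ne_zero _ fun e => by rw [e, norm_zero] at hζ; linarith⟩
  refine (differentiableAt_circleIntegral (F := fun x ζ => h ζ x / ζ ^ (j + 1)) hR hr.le
    (fun ζ hζ => ?_) ?_).const_mul _
  · simp only [div_eq_mul_inv]
    exact (hh.comp ((differentiableOn_const ζ).prodMk differentiableOn_id)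
      fun x hx => ⟨(hs ζ hζ).1, hsub hx⟩).mul_const _
  · exact (hh.continuousOn.comp (f := fun p : (Fin n → ℂ) × ℂ => (p.2, p.1)) (by fun_prop)
      fun p hp => ⟨(hs p.2 hp.2).1, hsub hp.1⟩).div (by fun_prop) fun p hp => (hs p.2 hp.2).2

theorem differentiableOn_wQuot (h : ℂ → (Fin n → ℂ) → ℂ) (hr : 0 < r) (hρ : r < ρ)
    (hh : DifferentiableOn ℂ (fun p : ℂ × (Fin n → ℂ) => h p.1 p.2) (ball 0 ρ ×ˢ ball 0 δ)) :
    DifferentiableOn ℂ (fun p : ℂ × (Fin n → ℂ) => wQuot r s h p.1 p.2) (ball 0 ρ ×ˢ ball 0 δ) := by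
  rintro ⟨w, z⟩ ⟨hw, hz⟩
  refine DifferentiableAt.differentiableWithinAt ?_
  by_cases hw0 : w = 0
  · subst hw0
    obtain ⟨R, hR, hsub⟩ := Metric.isOpen_iff.mp (isOpen_ball.prod isOpen_ball :
      IsOpen (ball (0 : ℂ) r ×ˢ ball (0 : Fin n → ℂ) δ)) (0, z) ⟨mem_ball_self hr, hz⟩
    have hI : DifferentiableAt ℂ (fun p : ℂ × (Fin n → ℂ) => (2 * Real.pi * Complex.I)⁻¹ *
        ∮ ζ in C(0, r), h ζ p.2 / (ζ ^ s * (ζ - p.1))) (0, z) := by
      have hne : ∀ p ∈ ball ((0 : ℂ), z) R, ∀ ζ ∈ sphere (0 : ℂ) r, ζ ∈ ball (0 : ℂ) ρ ∧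
          ζ ^ s * (ζ - p.1) ≠ 0 := fun p hp ζ hζ => by
        rw [mem_sphere_zero_iff_norm] at hζ
        have h1 := (hsub hp).1
        rw [mem_ball_zero_iff] at h1
        exact ⟨by rw [mem_ball_zero_iff]; linarith, mul_ne_zero
          (pow_ne_zero _ fun e => by rw [e, norm_zero] at hζ; linarith)
          (sub_ne_zero.mpr fun e => by rw [e] at hζ; linarith)⟩
      refine (differentiableAt_circleIntegral (F := fun (p : ℂ × (Fin n → ℂ)) ζ =>
        h ζ p.2 / (ζ ^ s * (ζ - p.1))) hR hr.le (fun ζ hζ => ?_) ?_).const_mul _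
      · simp only [div_eq_mul_inv]
        exact (hh.comp ((differentiableOn_const ζ).prodMk differentiableOn_snd)
          fun p hp => ⟨(hne p hp ζ hζ).1, (hsub hp).2⟩).fun_mul
          (DifferentiableOn.fun_inv (by fun_prop) fun p hp => (hne p hp ζ hζ).2)
      · refine ContinuousOn.div ?_ (by fun_prop) fun q hq => (hne q.1 hq.1 q.2 hq.2).2
        exact hh.continuousOn.comp (f := fun q : (ℂ × (Fin n → ℂ)) × ℂ => (q.2, q.1.2)) (by fun_prop)
          fun q hq => ⟨(hne q.1 hq.1 q.2 hq.2).1, (hsub hq.1).2⟩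
    refine hI.congr_of_eventuallyEq ?_
    filter_upwards [(isOpen_ball.prod isOpen_ball : IsOpen (ball (0 : ℂ) r ×ˢ ball (0 : Fin n → ℂ) δ)).mem_nhds
      (⟨mem_ball_self hr, hz⟩ : ((0 : ℂ), z) ∈ ball (0 : ℂ) r ×ˢ ball (0 : Fin n → ℂ) δ)] with p hp
    unfold wQuot
    split_ifs with h0
    · rfl
    · rw [div_eq_iff (pow_ne_zero _ h0), mul_comm _ (p.1 ^ s), pow_mul_wQuot_integral h hr hρ hh hp.2 hp.1]
  · have hmem : ball (0 : ℂ) ρ ×ˢ ball (0 : Fin n → ℂ) δ ∈ 𝓝 (w, z) :=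
      (isOpen_ball.prod isOpen_ball).mem_nhds ⟨hw, hz⟩
    have hrem : DifferentiableAt ℂ (fun p : ℂ × (Fin n → ℂ) => wRem r s h p.1 p.2) (w, z) :=
      DifferentiableAt.fun_sum fun j _ => ((differentiableAt_wCoeff h hr hρ hh j hz).comp (w, z)
        differentiableAt_snd).fun_mul (differentiableAt_fst.pow j)
    refine (((hh.differentiableAt hmem).fun_sub hrem).fun_mul
      (DifferentiableAt.fun_inv (differentiableAt_fst.pow s) (pow_ne_zero s hw0))).congr_of_eventuallyEq ?_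
    filter_upwards [continuousAt_fst.eventually_ne (show (w, z).1 ≠ 0 from hw0)] with p hp
    simp only [wQuot, if_neg hp, div_eq_mul_inv]
    rfl

theorem norm_wCoeff_le (h : ℂ → (Fin n → ℂ) → ℂ) (hr : 0 < r) {z : Fin n → ℂ} {M : ℝ}
    (hM : ∀ ζ ∈ sphere (0 : ℂ) r, ‖h ζ z‖ ≤ M) (j : ℕ) : ‖wCoeff r j h z‖ ≤ M / r ^ j := by
  refine (circleIntegral.norm_two_pi_i_inv_smul_integral_le_of_norm_le_const hr.le
    (C := M / r ^ (j + 1)) fun ζ hζ => ?_).trans (le_of_eq ?_)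
  · rw [norm_div, norm_pow, mem_sphere_zero_iff_norm.mp hζ]
    gcongr
    exact hM ζ hζ
  · field_simp
    ring

theorem norm_wQuot_le (h : ℂ → (Fin n → ℂ) → ℂ) (hr : 0 < r) (hρ : r < ρ)
    (hh : DifferentiableOn ℂ (fun p : ℂ × (Fin n → ℂ) => h p.1 p.2) (ball 0 ρ ×ˢ ball 0 δ))
    {z : Fin n → ℂ} (hz : z ∈ ball (0 : Fin n → ℂ) δ) {M : ℝ}
    (hM : ∀ ζ ∈ sphere (0 : ℂ) r, ‖h ζ z‖ ≤ M) {w : ℂ} (hw : w ∈ closedBall (0 : ℂ) r) :
    ‖wQuot r s h w z‖ ≤ (1 + s) * M / r ^ s := by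
  refine Complex.norm_le_of_forall_mem_frontier_norm_le (f := fun ζ => wQuot r s h ζ z) (U := ball (0 : ℂ) r) isBounded_ball ?_
    (fun ζ hζ => ?_) (by rwa [closure_ball _ hr.ne'])
  · exact DifferentiableOn.diffContOnCl ((slice _ (differentiableOn_wQuot h hr hρ hh) hz).mono
      (by rw [closure_ball _ hr.ne']; exact closedBall_subset_ball hρ))
  · rw [frontier_ball _ hr.ne'] at hζ
    have hn := mem_sphere_zero_iff_norm.mp hζ
    show ‖wQuot r s h ζ z‖ ≤ _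
    rw [wQuot, if_neg (fun e => by rw [e, norm_zero] at hn; linarith), norm_div, norm_pow, hn]
    gcongr
    refine (norm_sub_le _ _).trans ?_
    rw [add_mul, one_mul]
    refine add_le_add (hM ζ hζ) ((norm_sum_le _ _).trans ((Finset.sum_le_sum fun j _ => ?_).trans
      (le_of_eq ?_ : ∑ j ∈ Finset.range s, M ≤ _)))
    · rw [norm_mul, norm_pow, hn, ← le_div_iff₀ (by positivity)]
      exact norm_wCoeff_le h hr hM j
    · simp

/-- Division by a small perturbation of a power of the distinguished variable. -/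
theorem exists_division_aux (hr : 0 < r) (hρ : r < ρ)
    (f e : ℂ → (Fin n → ℂ) → ℂ)
    (hf : DifferentiableOn ℂ (fun p : ℂ × (Fin n → ℂ) => f p.1 p.2) (ball 0 ρ ×ˢ ball 0 δ))
    (he : DifferentiableOn ℂ (fun p : ℂ × (Fin n → ℂ) => e p.1 p.2) (ball 0 ρ ×ˢ ball 0 δ))
    {M : ℝ} (hM : ∀ w ∈ closedBall (0 : ℂ) r, ∀ z ∈ ball (0 : Fin n → ℂ) δ, ‖f w z‖ ≤ M)
    (hε : ∀ w ∈ closedBall (0 : ℂ) r, ∀ z ∈ ball (0 : Fin n → ℂ) δ, ‖e w z‖ ≤ r ^ s / (2 * (1 + s))) :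
    ∃ (q : ℂ × (Fin n → ℂ) → ℂ) (c : ℕ → (Fin n → ℂ) → ℂ),
      DifferentiableOn ℂ q (ball 0 r ×ˢ ball 0 δ) ∧ (∀ j, DifferentiableOn ℂ (c j) (ball 0 δ)) ∧
      ∀ w ∈ ball (0 : ℂ) r, ∀ z ∈ ball (0 : Fin n → ℂ) δ,
        f w z = q (w, z) * (w ^ s + e w z) + ∑ j ∈ Finset.range s, c j z * w ^ j := by
  let step : (ℂ → (Fin n → ℂ) → ℂ) → (ℂ → (Fin n → ℂ) → ℂ) := fun h w z => -(wQuot r s h w z) * e w z
  let H : ℕ → ℂ → (Fin n → ℂ) → ℂ := fun k => step^[k] f
  have hH : ∀ k, H (k + 1) = step (H k) := fun k => Function.iterate_succ_apply' step k f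
  have hHd : ∀ k, DifferentiableOn ℂ (fun p : ℂ × (Fin n → ℂ) => H k p.1 p.2) (ball 0 ρ ×ˢ ball 0 δ) := by
    intro k
    induction k with
    | zero => exact hf
    | succ k ih => rw [hH]; exact ((differentiableOn_wQuot _ hr hρ ih).fun_neg).fun_mul he
  have hHb : ∀ k, ∀ w ∈ closedBall (0 : ℂ) r, ∀ z ∈ ball (0 : Fin n → ℂ) δ, ‖H k w z‖ ≤ M * (1 / 2) ^ k := by
    intro k
    induction k with
    | zero => simpa [H] using hM
    | succ k ih =>
      intro w hw z hz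
      rw [hH]
      show ‖-(wQuot r s (H k) w z) * e w z‖ ≤ _
      rw [norm_mul, norm_neg]
      have h1 := norm_wQuot_le (s := s) (H k) hr hρ (hHd k) hz
        (fun ζ hζ => ih ζ (sphere_subset_closedBall hζ) z hz) hw
      refine (mul_le_mul h1 (hε w hw z hz) (norm_nonneg _) ((norm_nonneg _).trans h1)).trans (le_of_eq ?_)
      rw [pow_succ]
      field_simp
  have hQb : ∀ k, ∀ w ∈ closedBall (0 : ℂ) r, ∀ z ∈ ball (0 : Fin n → ℂ) δ,
      ‖wQuot r s (H k) w z‖ ≤ (1 + s) * (M * (1 / 2) ^ k) / r ^ s := fun k w hw z hz =>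
    norm_wQuot_le (H k) hr hρ (hHd k) hz (fun ζ hζ => hHb k ζ (sphere_subset_closedBall hζ) z hz) hw
  have hgeo : ∀ C : ℝ, Summable fun k : ℕ => C * (1 / 2 : ℝ) ^ k := fun C => summable_geometric_two.mul_left C
  have hsQ : Summable fun k : ℕ => (1 + s) * (M * (1 / 2) ^ k) / r ^ s :=
    (hgeo ((1 + s) * M / r ^ s)).congr fun k => by ring
  have hCb : ∀ k j, ∀ z ∈ ball (0 : Fin n → ℂ) δ, ‖wCoeff r j (H k) z‖ ≤ M * (1 / 2) ^ k / r ^ j :=
    fun k j z hz => norm_wCoeff_le (H k) hr (fun ζ hζ => hHb k ζ (sphere_subset_closedBall hζ) z hz) j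
  have hsC : ∀ j, Summable fun k : ℕ => M * (1 / 2) ^ k / r ^ j := fun j =>
    (hgeo (M / r ^ j)).congr fun k => by ring
  refine ⟨fun p => ∑' k, wQuot r s (H k) p.1 p.2, fun j z => ∑' k, wCoeff r j (H k) z, ?_, ?_, ?_⟩
  · intro p hp
    obtain ⟨R, hR, hsub⟩ := Metric.isOpen_iff.mp (isOpen_ball.prod isOpen_ball) p hp
    exact (differentiableAt_tsum hsQ hR
      (fun k => (differentiableOn_wQuot _ hr hρ (hHd k)).mono
        (hsub.trans (Set.prod_mono (ball_subset_ball hρ.le) subset_rfl)))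
      fun k x hx => hQb k x.1 (ball_subset_closedBall (hsub hx).1) x.2 (hsub hx).2).differentiableWithinAt
  · intro j z hz
    obtain ⟨R, hR, hsub⟩ := Metric.isOpen_iff.mp isOpen_ball z hz
    exact (differentiableAt_tsum (hsC j) hR
      (fun k x hx => (differentiableAt_wCoeff _ hr hρ (hHd k) j (hsub hx)).differentiableWithinAt)
      fun k x hx => hCb k j x (hsub hx)).differentiableWithinAt
  · intro w hw z hz
    have hwc := ball_subset_closedBall hw
    have hsq : Summable fun k => wQuot r s (H k) w z := .of_norm_bounded hsQ fun k => hQb k w hwc z hz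
    have hsc : ∀ j, Summable fun k => wCoeff r j (H k) z := fun j => .of_norm_bounded (hsC j) fun k => hCb k j z hz
    have hsH : Summable fun k => H k w z := .of_norm_bounded (hgeo M) fun k => hHb k w hwc z hz
    have h1 : ∑' k, H k w z = w ^ s * (∑' k, wQuot r s (H k) w z) +
        ∑ j ∈ Finset.range s, (∑' k, wCoeff r j (H k) z) * w ^ j := by
      rw [← hsq.tsum_mul_left, Finset.sum_congr rfl fun j _ => ((hsc j).tsum_mul_right (w ^ j)).symm,
        ← Summable.tsum_finsetSum fun j _ => (hsc j).mul_right _,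
        ← (hsq.mul_left _).tsum_add (summable_sum fun j _ => (hsc j).mul_right _)]
      exact tsum_congr fun k => by rw [pow_mul_wQuot _ hr hρ (hHd k) hz w, wRem, sub_add_cancel]
    have h2 : ∑' k, H k w z = f w z - (∑' k, wQuot r s (H k) w z) * e w z := by
      have h4 : ∀ k, H (k + 1) w z = wQuot r s (H k) w z * -(e w z) := fun k => by
        rw [hH]
        exact (neg_mul_comm _ _)
      rw [hsH.tsum_eq_zero_add, tsum_congr h4, hsq.tsum_mul_right, mul_neg, ← sub_eq_add_neg]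
      rfl
    linear_combination h1 - h2

end operators

/-- Pull back of germs along the projection forgetting the first variable. -/
def emb : O n →+* O (n + 1) :=
  RingHom.codRestrict ((RingHom.comp
    { toFun := fun g => g.compTendsto (fun z : Fin (n + 1) → ℂ => Fin.tail z)
        ((continuous_pi fun i => continuous_apply _).tendsto' 0 0 rfl)
      map_one' := rfl
      map_mul' := fun a b => Germ.inductionOn₂ a b fun _ _ => rfl
      map_zero' := rfl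
      map_add' := fun a b => Germ.inductionOn₂ a b fun _ _ => rfl }
    (hol n).subtype : O n →+* Germ (𝓝 (0 : Fin (n + 1) → ℂ)) ℂ)) (hol (n + 1)) (by
      rintro ⟨_, f, hf, rfl⟩
      refine ⟨fun z => f (Fin.tail z), ?_, rfl⟩
      have hT : Differentiable ℂ fun z : Fin (n + 1) → ℂ => Fin.tail z :=
        differentiable_pi.mpr fun i => differentiable_apply (Fin.succ i)
      exact ((hT.continuous.tendsto' 0 0 rfl).eventually hf).mono fun z hz => hz.comp z (hT z))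

theorem emb_mk (f : (Fin n → ℂ) → ℂ) (hf : Diff f) :
    (emb (mk f hf) : Germ (𝓝 (0 : Fin (n + 1) → ℂ)) ℂ) = Germ.ofFun fun z => f (Fin.tail z) := rfl

/-- The weierstrass division theorem. -/
theorem exists_division (g : (Fin (n + 1) → ℂ) → ℂ) (hg : Diff g) (s : ℕ) (u : ℂ → ℂ)
    (hu : AnalyticAt ℂ u 0) (hu0 : u 0 ≠ 0) (hgu : ∀ᶠ w in 𝓝 0, g (Fin.cons w 0) = w ^ s * u w)
    (f : O (n + 1)) : ∃ (q : O (n + 1)) (c : Fin s → O n),
      f = q * mk g hg + ∑ j : Fin s, coo 0 ^ (j : ℕ) * emb (c j) := by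
  classical
  obtain ⟨F, hF, rfl⟩ := exists_mk f
  obtain ⟨ρ₁, hρ₁, h₁⟩ := Metric.eventually_nhds_iff_ball.mp (hF.and hg)
  obtain ⟨ρ₂, hρ₂, h₂⟩ := Metric.eventually_nhds_iff_ball.mp
    ((hu.eventually_analyticAt.and (hu.continuousAt.eventually_ne hu0)).and hgu)
  set ρ := min ρ₁ ρ₂
  have hρ : 0 < ρ := lt_min hρ₁ hρ₂
  set r := ρ / 2
  have hr : 0 < r := by positivity
  have hrρ : r < ρ := half_lt_self hρ
  let K : ℂ × (Fin n → ℂ) → Fin (n + 1) → ℂ := fun p => Fin.cons p.1 p.2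
  have hK : Differentiable ℂ K := differentiable_pi.mpr fun i => Fin.cases
    (by simp only [K, Fin.cons_zero]; fun_prop) (fun j => by simp only [K, Fin.cons_succ]; fun_prop) i
  have hKb : ∀ p ∈ ball (0 : ℂ) ρ ×ˢ ball (0 : Fin n → ℂ) ρ, K p ∈ ball (0 : Fin (n + 1) → ℂ) ρ₁ := by
    rintro ⟨w, z⟩ ⟨hw, hz⟩
    rw [mem_ball_zero_iff] at hw hz ⊢
    refine (pi_norm_lt_iff hρ₁).mpr fun i => Fin.cases ?_ (fun j => ?_) i
    · simpa [K] using hw.trans_le (min_le_left _ _)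
    · simpa [K] using (norm_le_pi_norm z j).trans_lt (hz.trans_le (min_le_left _ _))
  have hFd : DifferentiableOn ℂ (fun p : ℂ × (Fin n → ℂ) => F (K p)) (ball 0 ρ ×ˢ ball 0 ρ) :=
    fun p hp => ((h₁ _ (hKb p hp)).1.comp p (hK p)).differentiableWithinAt
  have hu' : ∀ w ∈ ball (0 : ℂ) ρ, DifferentiableAt ℂ u w ∧ u w ≠ 0 ∧ g (Fin.cons w 0) = w ^ s * u w :=
    fun w hw => by
      have := h₂ w (ball_subset_ball (min_le_right _ _) hw)
      exact ⟨this.1.1.differentiableAt, this.1.2, this.2⟩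
  let e : ℂ → (Fin n → ℂ) → ℂ := fun w z => g (K (w, z)) * (u w)⁻¹ - w ^ s
  have hed : DifferentiableOn ℂ (fun p : ℂ × (Fin n → ℂ) => e p.1 p.2) (ball 0 ρ ×ˢ ball 0 ρ) :=
    fun p hp => ((((h₁ _ (hKb p hp)).2.comp p (hK p)).fun_mul
      (((hu' p.1 hp.1).1.comp p differentiableAt_fst).fun_inv (hu' p.1 hp.1).2.1)).fun_sub
        (differentiableAt_fst.pow s)).differentiableWithinAt
  have hcont : ∀ w ∈ closedBall (0 : ℂ) r, ∀ᶠ q : (Fin n → ℂ) × ℂ in 𝓝 (0, w),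
      ‖e q.2 q.1‖ < r ^ s / (2 * (1 + s)) := by
    intro w hw
    have hwρ : w ∈ ball (0 : ℂ) ρ := closedBall_subset_ball hrρ hw
    have h0 : e w 0 = 0 := by
      show g (Fin.cons w 0) * (u w)⁻¹ - w ^ s = 0
      rw [(hu' w hwρ).2.2, mul_assoc, mul_inv_cancel₀ (hu' w hwρ).2.1, mul_one, sub_self]
    have hc0 : ContinuousAt (fun p : ℂ × (Fin n → ℂ) => e p.1 p.2) (w, 0) :=
      hed.continuousOn.continuousAt ((isOpen_ball.prod isOpen_ball).mem_nhds
        (⟨hwρ, mem_ball_self hρ⟩ : (w, (0 : Fin n → ℂ)) ∈ ball (0 : ℂ) ρ ×ˢ ball (0 : Fin n → ℂ) ρ))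
    have hc : ContinuousAt (fun q : (Fin n → ℂ) × ℂ => ‖e q.2 q.1‖) (0, w) :=
      (ContinuousAt.comp_of_eq hc0 (f := fun q : (Fin n → ℂ) × ℂ => (q.2, q.1))
        (continuous_snd.prodMk continuous_fst).continuousAt rfl).norm
    exact hc.eventually_lt continuousAt_const (by simp only [h0, norm_zero]; positivity)
  obtain ⟨δ₀, hδ₀, hδe⟩ := Metric.eventually_nhds_iff_ball.mp
    ((isCompact_closedBall (0 : ℂ) r).eventually_forall_of_forall_eventually
      (P := fun (z : Fin n → ℂ) w => ‖e w z‖ < r ^ s / (2 * (1 + s))) hcont)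
  set δ := min δ₀ r
  have hδ : 0 < δ := lt_min hδ₀ hr
  have hδρ : δ ≤ ρ := (min_le_right _ _).trans hrρ.le
  obtain ⟨M, hM⟩ := ((isCompact_closedBall (0 : ℂ) r).prod (isCompact_closedBall (0 : Fin n → ℂ) r)).exists_bound_of_continuousOn
    (hFd.continuousOn.mono (Set.prod_mono (closedBall_subset_ball hrρ) (closedBall_subset_ball hrρ)))
  obtain ⟨q, c, hq, hc, hid⟩ := exists_division_aux (s := s) hr hrρ (fun w z => F (K (w, z))) e
    (hFd.mono (Set.prod_mono subset_rfl (ball_subset_ball hδρ)))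
    (hed.mono (Set.prod_mono subset_rfl (ball_subset_ball hδρ)))
    (fun w hw z hz => hM (w, z) ⟨hw, closedBall_subset_closedBall (min_le_right _ _) (ball_subset_closedBall hz)⟩)
    (fun w hw z hz => (hδe z (ball_subset_ball (min_le_left _ _) hz) w hw).le)
  have hcD : ∀ j, Diff (c j) := fun j => Filter.eventually_of_mem (ball_mem_nhds 0 hδ) fun z hz =>
    (hc j).differentiableAt (isOpen_ball.mem_nhds hz)
  have hev : ∀ᶠ z : Fin (n + 1) → ℂ in 𝓝 0, z 0 ∈ ball (0 : ℂ) r ∧ Fin.tail z ∈ ball (0 : Fin n → ℂ) δ := by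
    have hc1 : Continuous fun z : Fin (n + 1) → ℂ => z 0 := continuous_apply 0
    have hc2 : Continuous fun z : Fin (n + 1) → ℂ => Fin.tail z :=
      continuous_pi fun i => continuous_apply (Fin.succ i)
    exact (hc1.continuousAt.eventually_mem (isOpen_ball.mem_nhds (by simpa using hr))).and
      (hc2.continuousAt.eventually_mem (isOpen_ball.mem_nhds
        (by rw [show Fin.tail (0 : Fin (n + 1) → ℂ) = 0 from rfl]; exact mem_ball_self hδ)))
  have hT : Differentiable ℂ fun z : Fin (n + 1) → ℂ => (z 0, Fin.tail z) :=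
    (differentiable_apply 0).prodMk (differentiable_pi.mpr fun i => differentiable_apply (Fin.succ i))
  let Q : (Fin (n + 1) → ℂ) → ℂ := fun z => q (z 0, Fin.tail z) * (u (z 0))⁻¹
  have hQ : Diff Q := hev.mono fun z hz =>
    ((hq.differentiableAt ((isOpen_ball.prod isOpen_ball).mem_nhds hz)).comp z (hT z)).fun_mul
      (((hu' _ (ball_subset_ball hrρ.le hz.1)).1.comp z (differentiable_apply 0 z)).fun_inv
        (hu' _ (ball_subset_ball hrρ.le hz.1)).2.1)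
  refine ⟨mk Q hQ, fun j => mk (c j) (hcD j), Subtype.ext ?_⟩
  simp only [Subring.coe_add, Subring.coe_mul, AddSubmonoidClass.coe_finsetSum]
  have hsum : (∑ j : Fin s, ((coo (0 : Fin (n + 1)) ^ (j : ℕ) : O (n + 1)) : Germ (𝓝 (0 : Fin (n + 1) → ℂ)) ℂ) *
      (emb (mk (c j) (hcD j)) : O (n + 1))) =
      Germ.ofFun (∑ j : Fin s, fun z : Fin (n + 1) → ℂ => z 0 ^ (j : ℕ) * c j (Fin.tail z)) := by
    rw [← Germ.coe_coeRingHom, map_sum]
    refine Finset.sum_congr rfl fun j _ => ?_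
    rw [SubmonoidClass.coe_pow, emb_mk]
    exact Germ.coe_eq.mpr (.of_forall fun z => by simp)
  rw [hsum]
  refine Germ.coe_eq.mpr (hev.mono fun z hz => ?_)
  show F z = Q z * g z + (∑ j : Fin s, fun z : Fin (n + 1) → ℂ => z 0 ^ (j : ℕ) * c j (Fin.tail z)) z
  have h := hid _ hz.1 _ hz.2
  simp only [K, e, Fin.cons_self_tail, add_sub_cancel] at h
  rw [h, Finset.sum_apply, Fin.sum_univ_eq_sum_range (fun j => z 0 ^ j * c j (Fin.tail z)) s]
  congr 1
  · ring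
  · exact Finset.sum_congr rfl fun j _ => mul_comm _ _

end Groth.L02.An
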