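import Mathlib.RingTheory.Filtration
import Mathlib.RingTheory.Flat.Tensor
import Mathlib.RingTheory.TensorProduct.Finite
import Mathlib.RingTheory.LocalRing.MaximalIdeal.Basic

/-!
A map of Noetherian local rings which is bijective modulo all powers of the maximal ideal is flat.
-/

noncomputable section

open TensorProduct IsLocalRing

namespace Groth.L02.An

theorem flat_of_bijective_pow {A B : Type*} [CommRing A] [CommRing B] [IsLocalRing A] [IsLocalRing B]
    [IsNoetherianRing A] [IsNoetherianRing B] [Algebra A B]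
    (hle : (maximalIdeal A).map (algebraMap A B) ≤ maximalIdeal B)
    (hsurj : ∀ (k : ℕ) (b : B), ∃ a : A, b - algebraMap A B a ∈ maximalIdeal B ^ k)
    (hinj : ∀ (k : ℕ) (a : A), algebraMap A B a ∈ maximalIdeal B ^ k → a ∈ maximalIdeal A ^ k) :
    Module.Flat A B := by
  rw [Module.Flat.iff_lTensor_injective']
  intro I
  rw [injective_iff_map_eq_zero]
  intro x hx
  obtain ⟨c, hc⟩ := (maximalIdeal A).exists_pow_inf_eq_pow_smul (M := A) I
  suffices h : ∀ k, x ∈ (maximalIdeal B ^ k • ⊤ : Submodule B (B ⊗[A] I)) by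
    have h' : x ∈ ⨅ k : ℕ, (maximalIdeal B ^ k • ⊤ : Submodule B (B ⊗[A] I)) :=
      (Submodule.mem_iInf _).mpr h
    rwa [Ideal.iInf_pow_smul_eq_bot_of_isLocalRing _ (maximalIdeal.isMaximal B).ne_top,
      Submodule.mem_bot] at h'
  intro k
  have hrep : ∀ y : B ⊗[A] I, ∃ j : I, y - (1 : B) ⊗ₜ[A] j ∈
      (maximalIdeal B ^ (k + c) • ⊤ : Submodule B (B ⊗[A] I)) := by
    intro y
    induction y with
    | zero => exact ⟨0, by simp⟩
    | tmul b i =>
      obtain ⟨a, ha⟩ := hsurj (k + c) b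
      refine ⟨a • i, ?_⟩
      rw [show b ⊗ₜ[A] i - (1 : B) ⊗ₜ[A] (a • i) = (b - algebraMap A B a) • ((1 : B) ⊗ₜ[A] i) by
        rw [TensorProduct.smul_tmul', smul_eq_mul, mul_one, TensorProduct.sub_tmul,
          TensorProduct.tmul_smul, Algebra.algebraMap_eq_smul_one, TensorProduct.smul_tmul']]
      exact Submodule.smul_mem_smul ha Submodule.mem_top
    | add y z hy hz =>
      obtain ⟨i, hi⟩ := hy
      obtain ⟨j, hj⟩ := hz
      exact ⟨i + j, by rw [TensorProduct.tmul_add, add_sub_add_comm]; exact add_mem hi hj⟩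
  obtain ⟨j, hj⟩ := hrep x
  let Ψ : B ⊗[A] I →ₗ[B] B :=
    (AlgebraTensorModule.rid A B B).toLinearMap ∘ₗ AlgebraTensorModule.lTensor B B I.subtype
  have hΨ : Ψ x = 0 := by
    show AlgebraTensorModule.rid A B B (LinearMap.lTensor B I.subtype x) = 0
    rw [hx, map_zero]
  have hΨj : Ψ ((1 : B) ⊗ₜ[A] j) = algebraMap A B j := by
    simp [Ψ, Algebra.algebraMap_eq_smul_one]
  have hjB : algebraMap A B j ∈ maximalIdeal B ^ (k + c) := by
    have := Submodule.mem_map_of_mem (f := Ψ) hj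
    rw [Submodule.map_smul'', map_sub, hΨ, hΨj, zero_sub] at this
    exact neg_mem_iff.mp (Submodule.smul_le.mpr (fun r hr y _ => Ideal.mul_mem_right y _ hr) this)
  have hjA : (j : A) ∈ (maximalIdeal A) ^ k • I := by
    have h1 : (j : A) ∈ (maximalIdeal A ^ (k + c) • ⊤ : Submodule A A) ⊓ I :=
      ⟨by rw [smul_eq_mul, Ideal.mul_top]; exact hinj _ _ hjB, j.2⟩
    rw [hc _ (by omega), Nat.add_sub_cancel] at h1
    exact Submodule.smul_mono le_rfl inf_le_right h1
  have hone : ∀ (a : A) (ha : a ∈ maximalIdeal A ^ k • I),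
      (1 : B) ⊗ₜ[A] (⟨a, Submodule.smul_le_right ha⟩ : I) ∈
        (maximalIdeal B ^ k • ⊤ : Submodule B (B ⊗[A] I)) := by
    intro a ha
    induction ha using Submodule.smul_induction_on' with
    | smul r hr i hi =>
      rw [show (⟨r • i, _⟩ : I) = r • ⟨i, hi⟩ from rfl, TensorProduct.tmul_smul,
        ← algebraMap_smul B r]
      exact Submodule.smul_mem_smul (by
        refine Ideal.pow_right_mono hle k ?_
        rw [← Ideal.map_pow]; exact Ideal.mem_map_of_mem _ hr) Submodule.mem_top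
    | add y hy z hz hy' hz' =>
      rw [show (⟨y + z, _⟩ : I) = ⟨y, Submodule.smul_le_right hy⟩ + ⟨z, Submodule.smul_le_right hz⟩ from rfl,
        TensorProduct.tmul_add]
      exact add_mem hy' hz'
  rw [← sub_add_cancel x ((1 : B) ⊗ₜ[A] j)]
  exact add_mem (Submodule.smul_mono (Ideal.pow_le_pow_right (Nat.le_add_right k c)) le_rfl hj)
    (hone j hjA)

end Groth.L02.An
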