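import Groth.Agent.L02.An.Germ.Basic
import Groth.Agent.L02.An.Roots
import Mathlib.RingTheory.Henselian
import Mathlib.Analysis.Asymptotics.Lemmas

/-!
The ring of germs of holomorphic functions is Henselian: simple roots depend holomorphically on parameters.
-/

noncomputable section

open Filter Topology Polynomial Asymptotics

namespace Groth.L02.An

variable {E : Type*} [NormedAddCommGroup E] [NormedSpace ℂ E]

theorem differentiableAt_mul_of_continuousAt {h G : E → ℂ} {z₀ : E} (hh : DifferentiableAt ℂ h z₀)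
    (h0 : h z₀ = 0) (hG : ContinuousAt G z₀) : DifferentiableAt ℂ (fun z => G z * h z) z₀ := by
  obtain ⟨L, hL⟩ := hh
  refine ⟨G z₀ • L, hasFDerivAt_iff_isLittleO.mpr ?_⟩
  have h1 : (fun z => G z₀ * (h z - h z₀ - L (z - z₀))) =o[𝓝 z₀] fun z => z - z₀ :=
    (hasFDerivAt_iff_isLittleO.mp hL).const_mul_left _
  have h2 : (fun z => h z) =O[𝓝 z₀] fun z => z - z₀ := by
    have := hL.isBigO_sub
    simpa [h0] using this
  have h3 : (fun z => (G z - G z₀) * h z) =o[𝓝 z₀] fun z => z - z₀ := by
    have hG' : (fun z => G z - G z₀) =o[𝓝 z₀] fun _ => (1 : ℝ) := by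
      rw [isLittleO_one_iff]
      exact tendsto_sub_nhds_zero_iff.mpr hG
    have := hG'.mul_isBigO h2.norm_right
    refine IsLittleO.of_norm_right (this.congr_right fun z => by rw [one_mul])
  refine (h1.add h3).congr_left fun z => ?_
  simp only [h0, mul_zero, sub_zero, smul_eq_mul, FunLike.coe_smul, Pi.smul_apply]
  ring

/-- A continuous simple root of a family of polynomials with holomorphic coefficients is holomorphic. -/
theorem differentiableAt_simple_root (c : E → ℂ[X]) (D : ℕ) (hdeg : ∀ z, (c z).natDegree ≤ D) {z₀ : E}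
    (hc : ∀ i, DifferentiableAt ℂ (fun z => (c z).coeff i) z₀) {r : E → ℂ} (hr : ContinuousAt r z₀)
    (hroot : ∀ᶠ z in 𝓝 z₀, (c z).eval (r z) = 0) (hsimple : (c z₀).derivative.eval (r z₀) ≠ 0) :
    DifferentiableAt ℂ r z₀ := by
  have hev : ∀ z x, (c z).eval x = ∑ i ∈ Finset.range (D + 1), (c z).coeff i * x ^ i := fun z x =>
    Polynomial.eval_eq_sum_range' (Nat.lt_succ_of_le (hdeg z)) x
  let F : E → ℂ := fun z => ∑ i ∈ Finset.range (D + 1), (c z).coeff i *
    ∑ j ∈ Finset.range i, r z ^ j * r z₀ ^ (i - 1 - j)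
  have hF : ContinuousAt F z₀ := by
    refine tendsto_finsetSum _ fun i _ => Tendsto.mul (hc i).continuousAt ?_
    exact tendsto_finsetSum _ fun j _ => (hr.pow j).mul tendsto_const_nhds
  have hF0 : F z₀ = (c z₀).derivative.eval (r z₀) := by
    simp only [F, geom_sum₂_self]
    rw [derivative_eval, sum_over_range' _ (fun n => by simp) (D + 1) (Nat.lt_succ_of_le (hdeg z₀))]
    exact Finset.sum_congr rfl fun i _ => by ring
  let h : E → ℂ := fun z => (c z).eval (r z₀)
  have hh : DifferentiableAt ℂ h z₀ := by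
    simp only [h, hev]
    exact DifferentiableAt.fun_sum fun i _ => (hc i).mul_const _
  have h0 : h z₀ = 0 := hroot.self_of_nhds
  have heq : r =ᶠ[𝓝 z₀] fun z => r z₀ + -(F z)⁻¹ * h z := by
    filter_upwards [hroot, hF.eventually_ne (hF0 ▸ hsimple)] with z hz hFz
    have h1 : F z * (r z - r z₀) = -h z := by
      simp only [F, h]
      rw [hev, Finset.sum_mul]
      simp only [mul_assoc, geom_sum₂_mul]
      simp only [mul_sub, Finset.sum_sub_distrib]
      rw [← hev, hz, zero_sub]
    have h2 : r z - r z₀ = -(F z)⁻¹ * h z := by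
      rw [neg_mul, ← mul_neg, ← h1, inv_mul_cancel_left₀ hFz]
    linear_combination h2
  refine DifferentiableAt.congr_of_eventuallyEq ?_ heq
  exact (differentiableAt_const _).fun_add
    (differentiableAt_mul_of_continuousAt hh h0 (hF.inv₀ (hF0 ▸ hsimple)).neg)

variable {n : ℕ}

/-- Hensel's lemma for germs of holomorphic functions. -/
theorem exists_isRoot (P : (O n)[X]) (hP : P.Monic) (r₀ : ℂ) (h0 : (P.map ev0).eval r₀ = 0)
    (h1 : (P.map ev0).derivative.eval r₀ ≠ 0) : ∃ ρ : O n, P.IsRoot ρ ∧ ev0 ρ = r₀ := by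
  classical
  have hD : P.natDegree ≠ 0 := fun hD => h1 (by
    rw [hP.natDegree_eq_zero.mp hD]; simp)
  choose f hf hfe using fun i => exists_mk (P.coeff i)
  obtain ⟨S, hS, hSo, hS0⟩ := eventually_nhds_iff.mp
    ((Finset.range P.natDegree).eventually_all.mpr fun i _ => hf i)
  let D := P.natDegree
  let c : (Fin n → ℂ) → ℂ[X] := fun z => X ^ D + ∑ i ∈ Finset.range D, Polynomial.C (f i z) * X ^ i
  have hdegsum : ∀ z, (∑ i ∈ Finset.range D, Polynomial.C (f i z) * X ^ i).degree < (D : WithBot ℕ) := by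
    intro z
    refine (Polynomial.degree_sum_le _ _).trans_lt ?_
    rw [Finset.sup_lt_iff (by exact_mod_cast WithBot.bot_lt_coe D)]
    exact fun i hi => (Polynomial.degree_C_mul_X_pow_le i _).trans_lt (by exact_mod_cast Finset.mem_range.mp hi)
  have hm : ∀ z, (c z).Monic := fun z => monic_X_pow_add (hdegsum z)
  have hdeg : ∀ z, (c z).natDegree = D := fun z => natDegree_eq_of_degree_eq_some (by
    simp only [c]
    rw [degree_add_eq_left_of_degree_lt] <;> simp [hdegsum z])
  have hcoeff : ∀ z i, (c z).coeff i = if i = D then 1 else if i < D then f i z else 0 := by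
    intro z i
    simp only [c, coeff_add, coeff_X_pow, finsetSum_coeff, coeff_C_mul, mul_ite, mul_one, mul_zero,
      Finset.sum_ite_eq, Finset.mem_range]
    split_ifs <;> first | omega | simp
  have hdiff : ∀ z ∈ S, ∀ i, DifferentiableAt ℂ (fun w => (c w).coeff i) z := by
    intro z hz i
    simp only [hcoeff]
    split_ifs with h h'
    · exact differentiableAt_const _
    · exact hS z hz i (Finset.mem_range.mpr h')
    · exact differentiableAt_const _
  have hc0 : c 0 = P.map ev0 := by
    refine Polynomial.ext fun i => ?_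
    rw [hcoeff, coeff_map]
    split_ifs with h h'
    · rw [h, show D = P.natDegree from rfl, hP.coeff_natDegree, map_one]
    · rw [← hfe i, ev0_mk]
    · rw [coeff_eq_zero_of_natDegree_lt (show P.natDegree < i by omega), map_zero]
  let T := {z : Fin n → ℂ // z ∈ S}
  obtain ⟨ε, N, ρ, hε, hNo, h0N, hρc, hρ⟩ := exists_root_nbhd (T := T) (fun t => c t.1) D (fun t => hm _)
    (fun t => hdeg _) hD (fun i => continuous_iff_continuousAt.mpr fun t =>
      (hdiff t.1 t.2 i).continuousAt.comp continuous_subtype_val.continuousAt)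
    (t₀ := ⟨0, hS0⟩) (r₀ := r₀) (by rw [hc0]; exact h0) (by rw [hc0]; exact h1)
  let r : (Fin n → ℂ) → ℂ := fun z => if h : z ∈ S then ρ ⟨z, h⟩ else 0
  have hNS : IsOpen (Subtype.val '' N : Set (Fin n → ℂ)) := hSo.isOpenEmbedding_subtypeVal.isOpenMap _ hNo
  have hr0 : r 0 = r₀ := by
    simp only [r, dif_pos hS0]
    exact ((hρ _ h0N).2.2 r₀ (by simpa using hε) (by rw [hc0]; exact h0)).symm
  have hrc : ContinuousOn r (Subtype.val '' N) := by
    rw [hNS.continuousOn_iff]
    rintro _ ⟨t, ht, rfl⟩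
    have : ContinuousAt (r ∘ Subtype.val) t := by
      refine ((hρc.continuousAt (hNo.mem_nhds ht))).congr (.of_forall fun w => ?_)
      simp only [Function.comp_apply, r, dif_pos w.2]
      rfl
    exact (hSo.isOpenEmbedding_subtypeVal.continuousAt_iff).mp this
  have hroot : ∀ z ∈ (Subtype.val '' N : Set (Fin n → ℂ)), (c z).eval (r z) = 0 := by
    rintro _ ⟨t, ht, rfl⟩
    simp only [r, dif_pos t.2]
    exact (hρ _ ht).2.1
  have hderiv : ContinuousAt (fun z => (c z).derivative.eval (r z)) 0 := by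
    have hev : ∀ z x, (c z).derivative.eval x = ∑ i ∈ Finset.range D, (c z).coeff (i + 1) * (i + 1) * x ^ i := by
      intro z x
      rw [Polynomial.eval_eq_sum_range' (n := D) ((natDegree_derivative_lt (by rw [hdeg]; exact hD)).trans_eq (hdeg z))]
      simp only [coeff_derivative]
    simp only [hev]
    exact tendsto_finsetSum _ fun i _ => ((hdiff 0 hS0 (i + 1)).continuousAt.mul_const _).mul
      ((hrc.continuousAt (hNS.mem_nhds ⟨_, h0N, rfl⟩)).pow i)
  have hrd : Diff r := by
    filter_upwards [hNS.mem_nhds ⟨_, h0N, rfl⟩,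
      hderiv.eventually_ne (by rw [hr0, hc0]; exact h1)] with z hz hz'
    have hzS : z ∈ S := by obtain ⟨t, -, rfl⟩ := hz; exact t.2
    exact differentiableAt_simple_root c D (fun w => (hdeg w).le) (hdiff z hzS) (hrc.continuousAt (hNS.mem_nhds hz))
      (Filter.eventually_of_mem (hNS.mem_nhds hz) hroot) hz'
  refine ⟨Groth.L02.An.mk r hrd, ?_, hr0⟩
  rw [IsRoot, Polynomial.eval_eq_sum_range]
  refine Subtype.ext ?_
  simp only [AddSubmonoidClass.coe_finsetSum, MulMemClass.coe_mul, SubmonoidClass.coe_pow, ← hfe,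
    Groth.L02.An.mk, ZeroMemClass.coe_zero, ← Germ.coe_coeRingHom, ← map_pow, ← map_mul, ← map_sum]
  rw [← map_zero (Germ.coeRingHom (𝓝 (0 : Fin n → ℂ)))]
  refine Germ.coe_eq.mpr ?_
  have hcoe : (Groth.L02.An.mk (f P.natDegree) (hf _) : O n) = 1 := (hfe _).trans hP.coeff_natDegree
  have htop : f P.natDegree =ᶠ[𝓝 0] fun _ => 1 := Germ.coe_eq.mp (congrArg Subtype.val hcoe)
  filter_upwards [htop, hNS.mem_nhds ⟨_, h0N, rfl⟩] with z hz hzN
  have h2 := hroot z hzN
  simp only [c, eval_add, eval_pow, eval_X, eval_finsetSum, eval_mul, eval_C] at h2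
  simp only [Finset.sum_apply, Pi.mul_apply, Pi.pow_apply, Pi.zero_apply]
  rw [Finset.sum_range_succ, hz, one_mul, add_comm]
  exact h2

instance henselianLocalRing : HenselianLocalRing (O n) where
  is_henselian P hP a₀ h₁ h₂ := by
    obtain ⟨ρ, hρ, hρ0⟩ := exists_isRoot P hP (ev0 a₀)
      (by rw [← eval₂_eq_eval_map, eval₂_at_apply]; exact (mem_maximalIdeal_iff _).mp h₁)
      (by
        rw [derivative_map, ← eval₂_eq_eval_map, eval₂_at_apply]
        exact (isUnit_iff _).mp h₂)
    exact ⟨ρ, hρ, by rw [mem_maximalIdeal_iff, map_sub, hρ0, sub_self]⟩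

end Groth.L02.An
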