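import Groth.Agent.L02.An.Germ.MapProps
import Mathlib.AlgebraicGeometry.Morphisms.FlatMono

/-!
A morphism with biholomorphic map of complex points is an isomorphism.
-/

noncomputable section

open AlgebraicGeometry CategoryTheory CategoryTheory.Limits TopologicalSpace Opposite IsLocalRing Filter Topology

namespace Groth.L02.An

open _root_.An

set_option backward.isDefEq.respectTransparency.types false

variable {X Y : Scheme.{0}} [X.Over SC] [Y.Over SC] [LocallyOfFiniteType (X ↘ SC)]
  [LocallyOfFiniteType (Y ↘ SC)] (f : X ⟶ Y) [f.IsOver SC]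

omit [LocallyOfFiniteType (X ↘ SC)] [LocallyOfFiniteType (Y ↘ SC)] in
theorem bijective_ψ_of_homeomorph (e : Pts X ≃ₜ Pts Y) (he : ⇑e = Pts.map f)
    (hhol : IsHolMap (⟨e.symm, e.symm.continuous⟩ : C(Pts Y, Pts X))) (x : Pts X) :
    Function.Bijective (ψ f x) := by
  constructor
  · rw [injective_iff_map_eq_zero]
    intro a ha
    refine toGerm_injective (Pts.map f x : top Y) ?_
    have h1 := congrArg (toGerm (x : top X)) ha
    rw [toGerm_ψ] at h1
    rw [map_zero]
    replace h1 := h1.trans (map_zero (toGerm (x : top X)))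
    revert h1
    induction toGerm (Pts.map f x : top Y) a using Germ.inductionOn with
    | _ g =>
      intro h1
      refine Germ.coe_eq.mpr ?_
      have h2 : ∀ᶠ y in 𝓝 x, g (Pts.map f y) = 0 := Germ.coe_eq.mp h1
      have h3 : 𝓝 (Pts.map f x) = Filter.map (Pts.map f) (𝓝 x) := by
        rw [← he]; exact (e.map_nhds_eq x).symm
      exact (eventually_map.mpr h2).filter_mono h3.le
  · intro b
    obtain ⟨V, hx, g, rfl⟩ := TopCat.Presheaf.exists_germ_eq (holPresheaf X) b
    let V' : Opens (top Y) := ⟨e.symm ⁻¹' (V : Set (top X)), V.2.preimage e.symm.continuous⟩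
    have hx' : (Pts.map f x : top Y) ∈ V' := by
      show e.symm (Pts.map f x) ∈ V
      rw [show Pts.map f x = e x from (congrFun he x).symm, e.symm_apply_apply]
      exact hx
    let g' : holSub V' := ⟨fun y : V' => g.1 ⟨e.symm y.1, y.2⟩, hhol V g.1 g.2⟩
    refine ⟨(holPresheaf Y).germ V' (Pts.map f x : top Y) hx' g', ?_⟩
    refine toGerm_injective (x : top X) ?_
    refine (congrArg (toGerm (x : top X)) (ψ_germ f x V' hx' g')).trans
      ((toGerm_germ (x : top X) _ hx' _).trans (Eq.trans ?_ (toGerm_germ (x : top X) V hx g).symm))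
    refine Germ.coe_eq.mpr ?_
    filter_upwards [V.2.mem_nhds hx] with y hy
    have hy1 : e.symm (Pts.map f y) = y := by
      rw [show Pts.map f y = e y from (congrFun he y).symm, e.symm_apply_apply]
    have hy2 : y ∈ (Opens.map (topMap f)).obj V' :=
      show e.symm (Pts.map f y) ∈ V from hy1.symm ▸ hy
    refine ((extend_of_mem _ _ hy2).trans ?_).trans (extend_of_mem V g hy).symm
    exact congrArg g.1 (Subtype.ext hy1)

omit [LocallyOfFiniteType (Y ↘ SC)] in
theorem surjective_of_closedPoints {Z : Scheme.{0}} (q : Z ⟶ X) [LocallyOfFiniteType q]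
    {W : Set Z} (hW : IsOpen W)
    (h : ∀ z : SC ⟶ Z, (z ≫ q) ≫ (X ↘ SC) = 𝟙 SC → z cpt ∈ W) : W = Set.univ := by
  let _ : Z.Over SC := ⟨q ≫ X ↘ SC⟩
  have : LocallyOfFiniteType (Z ↘ SC) := inferInstanceAs (LocallyOfFiniteType (q ≫ X ↘ SC))
  exact eq_univ_of_isOpen (X := Z) hW fun z => h z.1 ((Category.assoc _ _ _).trans z.2)

theorem isIso_of_homeomorph [IsReduced X] [IsReduced Y] (e : Pts X ≃ₜ Pts Y) (he : ⇑e = Pts.map f)
    (hhol : IsHolMap (⟨e.symm, e.symm.continuous⟩ : C(Pts Y, Pts X))) : IsIso f := by
  have : Etale f := (etale_iff f).mpr (bijective_ψ_of_homeomorph f e he hhol)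
  have hinj : Function.Injective (Pts.map f) := he ▸ e.injective
  have hdiag : Function.Surjective (pullback.diagonal f) := by
    rw [← Set.range_eq_univ]
    refine surjective_of_closedPoints (pullback.fst f f) (pullback.diagonal f).isOpenEmbedding.isOpen_range
      fun z hz => ?_
    let w : Pts X := ⟨z ≫ pullback.fst f f, hz⟩
    let w' : Pts X := ⟨z ≫ pullback.snd f f, by
      rw [← hz, ← comp_over f (S := SC)]
      simp only [Category.assoc, pullback.condition_assoc]⟩
    have hw : w = w' := hinj (Subtype.ext (by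
      show (z ≫ pullback.fst f f) ≫ f = (z ≫ pullback.snd f f) ≫ f
      simp only [Category.assoc, pullback.condition]))
    have hz' : z = (z ≫ pullback.fst f f) ≫ pullback.diagonal f := by
      refine pullback.hom_ext ?_ ?_
      · simp
      · simp only [Category.assoc, pullback.diagonal_snd, Category.comp_id]
        exact (congrArg Subtype.val hw).symm
    refine ⟨(z ≫ pullback.fst f f) cpt, ?_⟩
    rw [← Scheme.Hom.comp_apply, ← hz']
  have : IsIso (pullback.diagonal f) := by
    have : Surjective (pullback.diagonal f) := ⟨hdiag⟩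
    exact (isIso_iff_isOpenImmersion_and_surjective _).mpr ⟨inferInstance, inferInstance⟩
  have : Mono f := (pullback.isIso_diagonal_iff f).mp inferInstance
  have : IsOpenImmersion f := IsOpenImmersion.of_flat_of_mono f
  have : Surjective f := ⟨Set.range_eq_univ.mp <| eq_univ_of_isOpen (X := Y) f.isOpenEmbedding.isOpen_range
    fun y => ⟨Pts.pt (e.symm y), by
      rw [← Pts.pt_map, show Pts.map f (e.symm y) = e (e.symm y) from (congrFun he _).symm,
        e.apply_symm_apply]⟩⟩
  exact (isIso_iff_isOpenImmersion_and_surjective _).mpr ⟨inferInstance, inferInstance⟩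

omit [LocallyOfFiniteType (X ↘ SC)] [LocallyOfFiniteType (Y ↘ SC)] in
theorem homeomorph_of_isIso [IsIso f] : ∃ e : Pts X ≃ₜ Pts Y, ⇑e = Pts.map f ∧
    IsHolMap (⟨e.symm, e.symm.continuous⟩ : C(Pts Y, Pts X)) := by
  have : (inv f).IsOver SC := ⟨by rw [IsIso.inv_comp_eq, comp_over f (S := SC)]⟩
  refine ⟨{ toFun := Pts.map f
            invFun := Pts.map (inv f)
            left_inv := fun x => Subtype.ext (by simp)
            right_inv := fun y => Subtype.ext (by simp)
            continuous_toFun := Pts.continuous_map f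
            continuous_invFun := Pts.continuous_map (inv f) }, rfl, fun V g hg => ?_⟩
  exact holPred_comp (inv f) V g hg

end Groth.L02.An
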