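import Groth.Agent.L02.An.Germ.Maps
import Groth.Agent.L02.An.Germ.Henselian
import Groth.Agent.L02.An.Etale

/-!
Flat, unramified and etale morphisms are recognised on analytic local rings.
-/

noncomputable section

open AlgebraicGeometry CategoryTheory TopologicalSpace Opposite IsLocalRing Filter Topology TensorProduct

namespace Groth.L02.An

open _root_.An

set_option backward.isDefEq.respectTransparency.types false

section Algebra

/-- Flatness over a flat extension with the same closed point. -/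
theorem flat_of_flat_comp {A A' C : Type} [CommRing A] [CommRing A'] [CommRing C] [IsLocalRing A]
    [IsLocalRing A'] [IsLocalRing C] [IsNoetherianRing A'] [IsNoetherianRing C]
    [Algebra A A'] [Algebra A' C] [Algebra A C] [IsScalarTower A A' C] [IsLocalHom (algebraMap A' C)]
    [Module.Flat A C] (hm : (maximalIdeal A).map (algebraMap A A') = maximalIdeal A') :
    Module.Flat A' C := by
  refine Groth.L20.flat_of_lTensor_maximalIdeal_injective C ?_
  let ι : maximalIdeal A →ₗ[A] maximalIdeal A' :=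
    { toFun := fun a => ⟨algebraMap A A' a, hm ▸ Ideal.mem_map_of_mem _ a.2⟩
      map_add' := fun a b => Subtype.ext (map_add _ _ _)
      map_smul' := fun r a => Subtype.ext (by
        simp only [SetLike.val_smul, smul_eq_mul, map_mul, RingHom.id_apply]
        exact (Algebra.smul_def r _).symm) }
  let g : C ⊗[A] maximalIdeal A →+ C ⊗[A'] maximalIdeal A' :=
    TensorProduct.liftAddHom
      { toFun := fun c => ((TensorProduct.mk A' C (maximalIdeal A') c).toAddMonoidHom).comp ι.toAddMonoidHom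
        map_zero' := by ext a; simp
        map_add' := fun c d => by ext a; simp }
      (fun r c a => by
        show (r • c) ⊗ₜ[A'] ι a = c ⊗ₜ[A'] ι (r • a)
        rw [map_smul, ← algebraMap_smul A' r c, ← algebraMap_smul A' r (ι a), TensorProduct.smul_tmul])
  have hgs : Function.Surjective g := by
    intro z
    induction z using TensorProduct.induction_on with
    | zero => exact ⟨0, map_zero _⟩
    | tmul c y =>
      have hy : y ∈ Submodule.span A' (Set.range ι) := by
        suffices (y : A') ∈ (Submodule.span A' (Set.range ι)).map (maximalIdeal A').subtype by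
          obtain ⟨w, hw, hwy⟩ := this
          exact (Subtype.ext hwy : w = y) ▸ hw
        rw [Submodule.map_span, ← Set.range_comp]
        refine Submodule.span_mono ?_ (hm.ge y.2)
        rintro _ ⟨a, ha, rfl⟩
        exact ⟨⟨a, ha⟩, rfl⟩
      induction hy using Submodule.span_induction generalizing c with
      | mem y hy =>
        obtain ⟨a, rfl⟩ := hy
        exact ⟨c ⊗ₜ a, rfl⟩
      | zero => exact ⟨0, by rw [map_zero, TensorProduct.tmul_zero]⟩
      | add y y' _ _ h h' =>
        obtain ⟨w, hw⟩ := h c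
        obtain ⟨w', hw'⟩ := h' c
        exact ⟨w + w', by rw [map_add, hw, hw', TensorProduct.tmul_add]⟩
      | smul r y _ h =>
        obtain ⟨w, hw⟩ := h (r • c)
        exact ⟨w, by rw [hw, TensorProduct.smul_tmul]⟩
    | add z z' h h' =>
      obtain ⟨w, rfl⟩ := h
      obtain ⟨w', rfl⟩ := h'
      exact ⟨w + w', map_add _ _ _⟩
  have hcomp : ∀ w, TensorProduct.rid A' C ((maximalIdeal A').subtype.lTensor C (g w)) =
      TensorProduct.rid A C ((maximalIdeal A).subtype.lTensor C w) := by
    intro w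
    induction w using TensorProduct.induction_on with
    | zero => simp
    | tmul c a =>
      show algebraMap A A' (a : A) • c = (a : A) • c
      exact algebraMap_smul _ _ c
    | add w w' h h' => simp only [map_add, h, h']
  refine (injective_iff_map_eq_zero _).mpr fun z hz => ?_
  obtain ⟨w, rfl⟩ := hgs z
  have hw : TensorProduct.rid A C ((maximalIdeal A).subtype.lTensor C w) = 0 := by
    rw [← hcomp, hz, map_zero]
  have := Module.Flat.lTensor_preserves_injective_linearMap (M := C) (maximalIdeal A).subtype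
    Subtype.val_injective (((LinearEquiv.map_eq_zero_iff _).mp hw).trans (map_zero _).symm)
  rw [this, map_zero]

/-- Flatness may be tested on extensions with the same closed points. -/
theorem flat_iff_square {A A' B C : Type} [CommRing A] [CommRing A'] [CommRing B] [CommRing C] [IsLocalRing A]
    [IsLocalRing A'] [IsLocalRing B] [IsLocalRing C] [IsNoetherianRing A'] [IsNoetherianRing C]
    (a : A →+* A') (p : A →+* B) (q : A' →+* C) (b : B →+* C) (hq : IsLocalHom q) (h : q.comp a = b.comp p)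
    (ha : a.Flat) (hb : b.Flat) (hma : (maximalIdeal A).map a = maximalIdeal A')
    (hmb : (maximalIdeal B).map b = maximalIdeal C) : p.Flat ↔ q.Flat := by
  algebraize [a, p, q, b, b.comp p]
  have : IsScalarTower A A' C := .of_algebraMap_eq' h.symm
  have : IsScalarTower A B C := .of_algebraMap_eq' rfl
  have : IsLocalHom (algebraMap A' C) := hq
  constructor
  · intro hp
    have : Module.Flat A C := RingHom.Flat.comp hp hb
    exact flat_of_flat_comp (A := A) hma
  · intro hq'
    have : Module.Flat A C := by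
      show (b.comp p).Flat
      rw [← h]
      exact RingHom.Flat.comp ha hq'
    have : IsLocalHom (algebraMap B C) := ((IsLocalRing.local_hom_TFAE b).out 0 2 rfl rfl).mpr hmb.le
    have : Module.FaithfullyFlat B C := Module.FaithfullyFlat.of_flat_of_isLocalHom
    exact Groth.L06.FibreComp.flat_of_comp A B C

/-- The closed point may be tested on extensions with the same closed points. -/
theorem map_maximalIdeal_iff_square {A A' B C : Type} [CommRing A] [CommRing A'] [CommRing B] [CommRing C]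
    [IsLocalRing A] [IsLocalRing A'] [IsLocalRing B] [IsLocalRing C]
    (a : A →+* A') (p : A →+* B) (q : A' →+* C) (b : B →+* C) (h : q.comp a = b.comp p)
    (hb : b.Flat) (hma : (maximalIdeal A).map a = maximalIdeal A')
    (hmb : (maximalIdeal B).map b = maximalIdeal C) :
    (maximalIdeal A).map p = maximalIdeal B ↔ (maximalIdeal A').map q = maximalIdeal C := by
  rw [← hma, ← hmb, Ideal.map_map, h, ← Ideal.map_map]
  refine ⟨fun he => by rw [he], fun he => ?_⟩
  algebraize [b]
  have : IsLocalHom (algebraMap B C) := ((IsLocalRing.local_hom_TFAE b).out 0 2 rfl rfl).mpr hmb.le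
  have : Module.FaithfullyFlat B C := Module.FaithfullyFlat.of_flat_of_isLocalHom
  have h1 := congrArg (Ideal.comap (algebraMap B C)) he
  change Ideal.comap (algebraMap B C) (Ideal.map (algebraMap B C) _) =
    Ideal.comap (algebraMap B C) (Ideal.map (algebraMap B C) _) at h1
  rwa [Ideal.comap_map_eq_self_of_faithfullyFlat, Ideal.comap_map_eq_self_of_faithfullyFlat] at h1

/-- For residually rational local maps, unramified means generating the maximal ideal. -/
theorem formallyUnramified_iff_map {A B : Type} [CommRing A] [CommRing B] [IsLocalRing A] [IsLocalRing B]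
    (p : A →+* B) (hp : p.EssFiniteType) (hloc : IsLocalHom p)
    (hres : ∀ b : B, ∃ a, b - p a ∈ maximalIdeal B) :
    p.FormallyUnramified ↔ (maximalIdeal A).map p = maximalIdeal B := by
  algebraize [p]
  have : IsLocalHom (algebraMap A B) := hloc
  show Algebra.FormallyUnramified A B ↔ _
  rw [Algebra.FormallyUnramified.iff_map_maximalIdeal_eq]
  refine ⟨fun h => h.2, fun h => ⟨?_, h⟩⟩
  have hs : Function.Surjective (algebraMap (ResidueField A) (ResidueField B)) := by
    intro z
    obtain ⟨b, rfl⟩ := residue_surjective z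
    obtain ⟨a, ha⟩ := hres b
    exact ⟨residue A a, (Ideal.Quotient.eq.mpr ha).symm⟩
  exact ⟨fun z => by
    obtain ⟨a, rfl⟩ := hs z
    exact isSeparable_algebraMap a⟩

/-- A simple root over a Henselian ring with a rational residue lies in the image. -/
theorem mem_range_of_simple_root {R S : Type} [CommRing R] [HenselianLocalRing R] [CommRing S] [IsLocalRing S]
    (g : R →+* S) [IsLocalHom g] (P : Polynomial R) (hP : P.Monic) {u : S}
    (hu : P.eval₂ g u = 0) (hu' : IsUnit (P.derivative.eval₂ g u))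
    (hres : ∃ a₀, u - g a₀ ∈ maximalIdeal S) : u ∈ g.range := by
  obtain ⟨a₀, ha₀⟩ := hres
  have key : ∀ (Q : Polynomial R) (v w : S), v - w ∈ maximalIdeal S →
      Q.eval₂ g v - Q.eval₂ g w ∈ maximalIdeal S := by
    intro Q v w h
    rw [Polynomial.eval₂_eq_eval_map, Polynomial.eval₂_eq_eval_map]
    exact Ideal.mem_of_dvd _ (Polynomial.sub_dvd_eval_sub v w _) h
  have h1 : P.eval a₀ ∈ maximalIdeal R := by
    intro hunit
    have h2 := key P u (g a₀) ha₀
    rw [hu, zero_sub, neg_mem_iff, Polynomial.eval₂_at_apply] at h2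
    exact h2 (hunit.map g)
  have h2 : IsUnit (P.derivative.eval a₀) := by
    refine IsUnit.of_map g _ ?_
    rw [← Polynomial.eval₂_at_apply]
    by_contra h3
    refine (IsLocalRing.mem_maximalIdeal _).mp ?_ hu'
    have h4 := key P.derivative u (g a₀) ha₀
    exact (Submodule.sub_mem_iff_left _ h3).mp h4
  obtain ⟨ρ, hρ, hρ0⟩ := HenselianLocalRing.is_henselian P hP a₀ h1 h2
  refine ⟨ρ, ?_⟩
  have hd : u - g ρ ∈ maximalIdeal S := by
    rw [show u - g ρ = (u - g a₀) - g (ρ - a₀) by rw [map_sub]; ring]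
    exact sub_mem ha₀ (((IsLocalRing.local_hom_TFAE g).out 0 2 rfl rfl).mp inferInstance
      (Ideal.mem_map_of_mem g hρ0))
  obtain ⟨k, hk⟩ := Polynomial.binomExpansion (P.map g) u (g ρ - u)
  rw [add_sub_cancel, ← Polynomial.eval₂_eq_eval_map, Polynomial.eval₂_at_apply, hρ.eq_zero, map_zero,
    ← Polynomial.eval₂_eq_eval_map, hu, zero_add, Polynomial.derivative_map,
    ← Polynomial.eval₂_eq_eval_map] at hk
  have hunit : IsUnit (P.derivative.eval₂ g u + k * (g ρ - u)) := by
    by_contra h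
    refine (IsLocalRing.mem_maximalIdeal _).mp ?_ hu'
    exact (Submodule.add_mem_iff_left _ (Ideal.mul_mem_left _ _ (by rw [← neg_sub, neg_mem_iff]; exact hd))).mp h
  have h0 : (P.derivative.eval₂ g u + k * (g ρ - u)) * (g ρ - u) = 0 := by rw [hk]; ring
  exact sub_eq_zero.mp ((hunit.mul_right_eq_zero).mp h0)

end Algebra

theorem isOpen_nhd {P : MorphismProperty Scheme.{0}} {X Y : Scheme.{0}} (f : X ⟶ Y) :
    IsOpen {x : X | Groth.L05.Point.Nhd P f x} :=
  isOpen_iff_forall_mem_open.mpr fun _ ⟨U, hx, hU⟩ => ⟨U, fun _ hy => ⟨U, hy, hU⟩, U.2, hx⟩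

theorem of_forall_nhd {P : MorphismProperty Scheme.{0}} [IsZariskiLocalAtSource P] {X Y : Scheme.{0}}
    {f : X ⟶ Y} (h : ∀ x, Groth.L05.Point.Nhd P f x) : P f := by
  choose U hx hU using h
  exact (IsZariskiLocalAtSource.iff_of_openCover (P := P) (X.openCoverOfIsOpenCover U
    (.mk (eq_top_iff.mpr fun x _ => Opens.mem_iSup.mpr ⟨x, hx x⟩)))).mpr hU

theorem nhd_self {P : MorphismProperty Scheme.{0}} [P.RespectsIso] {X Y : Scheme.{0}} {f : X ⟶ Y}
    (hf : P f) (x : X) : Groth.L05.Point.Nhd P f x :=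
  Groth.L05.Point.nhd_of_openImm (P := P) f (𝟙 X) x (by rwa [Category.id_comp])

variable {X Y : Scheme.{0}} [X.Over SC] [Y.Over SC] [LocallyOfFiniteType (X ↘ SC)]
  [LocallyOfFiniteType (Y ↘ SC)] (f : X ⟶ Y) [f.IsOver SC]

theorem map_maximalIdeal_φ (x : Pts X) : (maximalIdeal (X.presheaf.stalk (Pts.pt x))).map (φ x) =
    maximalIdeal ((holPresheaf X).stalk (x : top X)) := map_maximalIdeal_anStalk x

omit [LocallyOfFiniteType (X ↘ SC)] [LocallyOfFiniteType (Y ↘ SC)] in
theorem ψ_comp_φ (x : Pts X) : (ψ f x).comp (φ (Pts.map f x)) = (φ x).comp (sm f x) :=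
  RingHom.ext (ψ_φ f x)

omit [LocallyOfFiniteType (X ↘ SC)] [LocallyOfFiniteType (Y ↘ SC)] in
theorem stalkMap_maximalIdeal_le (x : Pts X) :
    (maximalIdeal (Y.presheaf.stalk (Pts.pt (Pts.map f x)))).map (sm f x) ≤
      maximalIdeal (X.presheaf.stalk (Pts.pt x)) := by
  rw [← ker_valS, ← ker_valS, Ideal.map_le_iff_le_comap]
  intro a ha
  rw [Ideal.mem_comap, RingHom.mem_ker, valS_stalkMap]
  exact ha

theorem isLocalHom_ψ (x : Pts X) : IsLocalHom (ψ f x) := by
  refine ((IsLocalRing.local_hom_TFAE (ψ f x)).out 0 2 rfl rfl).mpr ?_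
  rw [← map_maximalIdeal_φ, ← map_maximalIdeal_φ, Ideal.map_map, ψ_comp_φ, ← Ideal.map_map]
  exact Ideal.map_mono (stalkMap_maximalIdeal_le f x)

theorem locallyOfFiniteType_hom : LocallyOfFiniteType f := by
  have : LocallyOfFiniteType (f ≫ Y ↘ SC) := by rw [comp_over f (S := SC)]; infer_instance
  exact locallyOfFiniteType_of_comp f (Y ↘ SC)

theorem flat_iff_at [IsReduced X] [IsReduced Y] (x : Pts X) : (sm f x).Flat ↔ (ψ f x).Flat :=
  flat_iff_square (φ (Pts.map f x)) (sm f x) (ψ f x) (φ x) (isLocalHom_ψ f x) (ψ_comp_φ f x)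
    (flat_stalkMap (Pts.map f x)) (flat_stalkMap x) (map_maximalIdeal_φ _) (map_maximalIdeal_φ _)

theorem flat_iff [IsReduced X] [IsReduced Y] : Flat f ↔ ∀ x : Pts X, (ψ f x).Flat := by
  refine ⟨fun hf x => (flat_iff_at f x).mp (Flat.stalkMap f (Pts.pt x)), fun h => ?_⟩
  have := locallyOfFiniteType_hom f
  have := Groth.L02.An.isLocallyNoetherian (X := Y)
  refine (Flat.iff_flat_stalkMap f).mpr fun p => ?_
  refine (eq_univ_of_isOpen (X := X) (Groth.L20.isOpen_flat_stalkMap f) fun x => ?_).ge (Set.mem_univ p)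
  exact (flat_iff_at f x).mpr (h x)

omit [LocallyOfFiniteType (X ↘ SC)] [LocallyOfFiniteType (Y ↘ SC)] in
theorem isLocalHom_sm (x : Pts X) : IsLocalHom (sm f x) :=
  ((IsLocalRing.local_hom_TFAE (sm f x)).out 0 2 rfl rfl).mpr (stalkMap_maximalIdeal_le f x)

theorem unramified_iff_at [IsReduced X] (x : Pts X) :
    Groth.L05.Point.Nhd @FormallyUnramified f (Pts.pt x) ↔
      (maximalIdeal ((holPresheaf Y).stalk (Pts.map f x : top Y))).map (ψ f x) =
        maximalIdeal ((holPresheaf X).stalk (x : top X)) := by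
  have := locallyOfFiniteType_hom f
  rw [Groth.L05.Point.nhd_formallyUnramified_iff_stalkMap]
  refine Iff.trans (show (f.stalkMap (Pts.pt x)).hom.FormallyUnramified ↔
    (maximalIdeal (Y.presheaf.stalk (Pts.pt (Pts.map f x)))).map (sm f x) = maximalIdeal _ from
    formallyUnramified_iff_map (sm f x) (LocallyOfFiniteType.stalkMap f (Pts.pt x)) (isLocalHom_sm f x)
      (exists_sub_stalkMap_mem f x)) ?_
  exact map_maximalIdeal_iff_square (φ (Pts.map f x)) (sm f x) (ψ f x) (φ x) (ψ_comp_φ f x)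
    (flat_stalkMap x) (map_maximalIdeal_φ _) (map_maximalIdeal_φ _)

theorem unramified_iff [IsReduced X] : FormallyUnramified f ↔
    ∀ x : Pts X, (maximalIdeal ((holPresheaf Y).stalk (Pts.map f x : top Y))).map (ψ f x) =
        maximalIdeal ((holPresheaf X).stalk (x : top X)) := by
  refine ⟨fun hf x => (unramified_iff_at f x).mp (nhd_self hf _), fun h => ?_⟩
  refine of_forall_nhd (P := @FormallyUnramified) fun p => ?_
  refine (eq_univ_of_isOpen (X := X) (isOpen_nhd (P := @FormallyUnramified) f) fun x => ?_).ge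
    (Set.mem_univ p)
  exact (unramified_iff_at f x).mpr (h x)

omit [LocallyOfFiniteType (X ↘ SC)] [LocallyOfFiniteType (Y ↘ SC)] in
theorem toGerm_ψ (x : Pts X) (a : (holPresheaf Y).stalk (Pts.map f x : top Y)) :
    toGerm (x : top X) (ψ f x a) =
      (toGerm (Pts.map f x : top Y) a).compTendsto (Pts.map f) ((Pts.continuous_map f).tendsto x) := by
  obtain ⟨V, h, g, rfl⟩ := TopCat.Presheaf.exists_germ_eq (holPresheaf Y) a
  refine (congrArg (toGerm (x : top X)) (ψ_germ f x V h g)).trans
    ((toGerm_germ (x : top X) _ h _).trans (Eq.trans ?_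
      (congrArg (fun e : Germ (𝓝 (Pts.map f x)) ℂ => e.compTendsto (Pts.map f)
        ((Pts.continuous_map f).tendsto x)) (toGerm_germ (Pts.map f x : top Y) V h g)).symm))
  refine Germ.coe_eq.mpr ?_
  filter_upwards [((Pts.continuous_map f).tendsto x).eventually (V.2.mem_nhds h)] with y hy
  exact (extend_of_mem _ _ (show y ∈ (Opens.map (topMap f)).obj V from hy)).trans
    (extend_of_mem V g hy).symm

/-- The germ of a section in the analytic local ring. -/
def secGerm (x : Pts X) (U : X.Opens) (h : Pts.pt x ∈ U) :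
    Γ(X, U) →+* (holPresheaf X).stalk (x : top X) :=
  (φ x).comp (X.presheaf.germ U (Pts.pt x) h).hom

theorem secGerm_appLE (x : Pts X) {U : X.Opens} {V : Y.Opens} (e : U ≤ f ⁻¹ᵁ V) (h : Pts.pt x ∈ U)
    (b : Γ(Y, V)) : secGerm x U h ((f.appLE V U e).hom b) =
      ψ f x (secGerm (Pts.map f x) V (map_pt_mem f x e h) b) := by
  show φ x (X.presheaf.germ U (Pts.pt x) h _) = ψ f x (φ (Pts.map f x) _)
  rw [ψ_φ]
  refine congrArg (φ x) (Eq.trans ?_ (sm_germ f x V (map_pt_mem f x e h) b).symm)
  show X.presheaf.germ U (Pts.pt x) h (X.presheaf.map (homOfLE e).op (f.app V b)) = _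
  exact TopCat.Presheaf.germ_res_apply X.presheaf (homOfLE e) _ h _

theorem secGerm_mem_range [Etale f] [IsReduced X] (x : Pts X) :
    ∃ (U : X.Opens) (h : Pts.pt x ∈ U), IsAffineOpen U ∧ ∀ b, secGerm x U h b ∈ (ψ f x).range := by
  obtain ⟨V, U, e, hV, hU, hxU, hst⟩ := exists_standardEtale f (Pts.pt x)
  refine ⟨U, hxU, hU, ?_⟩
  let _ := (f.appLE V U e).hom.toAlgebra
  obtain ⟨P⟩ := hst.nonempty_standardEtalePresentation
  obtain ⟨cY⟩ := exists_chart (Pts.map f x)
  let gY := secGerm (Pts.map f x) V (map_pt_mem f x e hxU)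
  let gX := secGerm x U hxU
  have hcomm : gX.comp (algebraMap Γ(Y, V) Γ(X, U)) = (ψ f x).comp gY :=
    RingHom.ext (secGerm_appLE f x e hxU)
  have hev : ∀ q : Polynomial Γ(Y, V), gX (Polynomial.aeval P.x q) =
      (q.map gY).eval₂ (ψ f x) (gX P.x) := fun q => by
    rw [Polynomial.aeval_def, Polynomial.hom_eval₂, hcomm, Polynomial.eval₂_map]
  have := isLocalHom_ψ f x
  have : IsLocalHom cY.toStalk :=
    ((IsLocalRing.local_hom_TFAE cY.toStalk).out 0 2 rfl rfl).mpr (eq_maximalIdeal cY.isMaximal_map).le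
  obtain ⟨Q, hQ, -, hQm⟩ := Polynomial.lifts_and_natDegree_eq_and_monic (f := cY.toStalk)
    (p := P.f.map gY) ((Polynomial.mem_lifts _).mpr (Polynomial.map_surjective _ cY.toStalk_surjective _))
    (P.monic_f.map _)
  have hroot : Q.eval₂ ((ψ f x).comp cY.toStalk) (gX P.x) = 0 := by
    rw [← Polynomial.eval₂_map, hQ, ← hev, P.hasMap.1, map_zero]
  have hder : IsUnit (Q.derivative.eval₂ ((ψ f x).comp cY.toStalk) (gX P.x)) := by
    rw [← Polynomial.eval₂_map, ← Polynomial.derivative_map, hQ, Polynomial.derivative_map, ← hev]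
    exact P.hasMap.isUnit_derivative_f.map gX
  have hux : gX P.x ∈ (ψ f x).range := by
    obtain ⟨a, ha⟩ := exists_sub_stalkMap_mem f x (X.presheaf.germ U (Pts.pt x) hxU P.x)
    obtain ⟨a', ha'⟩ := cY.toStalk_surjective (φ (Pts.map f x) a)
    have h1 := Ideal.mem_map_of_mem (φ x) ha
    rw [map_maximalIdeal_φ, map_sub, ← ψ_φ, ← ha'] at h1
    obtain ⟨ρ, hρ⟩ := mem_range_of_simple_root ((ψ f x).comp cY.toStalk) Q hQm hroot hder ⟨a', h1⟩
    exact ⟨cY.toStalk ρ, hρ⟩
  have hpoly : ∀ q : Polynomial Γ(Y, V), gX (Polynomial.aeval P.x q) ∈ (ψ f x).range := fun q => by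
    obtain ⟨a, ha⟩ := hux
    rw [hev, ← ha, Polynomial.eval₂_at_apply]
    exact ⟨_, rfl⟩
  intro b
  obtain ⟨p, n, hpn⟩ := P.exists_mul_aeval_x_g_pow_eq_aeval_x b
  obtain ⟨u, hu⟩ := hpoly P.g
  have huu : IsUnit u := IsUnit.of_map (ψ f x) u (hu ▸ P.hasMap.2.map gX)
  obtain ⟨w, hw⟩ := hpoly p
  refine ⟨w * (huu.unit⁻¹ : Units _) ^ n, ?_⟩
  have h1 := congrArg gX hpn
  rw [map_mul, map_pow, ← hu, ← hw] at h1
  rw [map_mul, map_pow, ← h1, mul_assoc, ← mul_pow, ← map_mul, huu.mul_val_inv, map_one, one_pow, mul_one]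

theorem φ_mem_range [Etale f] [IsReduced X] (x : Pts X) (a : X.presheaf.stalk (Pts.pt x)) :
    φ x a ∈ (ψ f x).range := by
  obtain ⟨U, h, hU, hb⟩ := secGerm_mem_range f x
  have := isLocalHom_ψ f x
  let _ := TopCat.Presheaf.algebra_section_stalk X.presheaf (⟨Pts.pt x, h⟩ : U)
  have hloc := hU.isLocalization_stalk ⟨Pts.pt x, h⟩
  obtain ⟨⟨b, q⟩, hbq⟩ := IsLocalization.surj (hU.primeIdealOf ⟨Pts.pt x, h⟩).asIdeal.primeCompl a
  have hq : IsUnit (secGerm x U h q.1) :=
    (IsLocalization.map_units (X.presheaf.stalk (Pts.pt x)) q).map (φ x)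
  obtain ⟨u, hu⟩ := hb q.1
  have huu : IsUnit u := IsUnit.of_map (ψ f x) u (hu ▸ hq)
  obtain ⟨w, hw⟩ := hb b
  refine ⟨w * (huu.unit⁻¹ : Units _), ?_⟩
  have h1 : φ x a * secGerm x U h q.1 = secGerm x U h b := (map_mul (φ x) _ _).symm.trans (congrArg (φ x) hbq)
  rw [map_mul, hw, ← h1, ← hu, mul_assoc, ← map_mul, huu.mul_val_inv, map_one, mul_one]

theorem ψ_surjective [Etale f] [IsReduced X] (x : Pts X) : Function.Surjective (ψ f x) := by
  obtain ⟨cX⟩ := exists_chart x
  obtain ⟨cY⟩ := exists_chart (Pts.map f x)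
  have hcoord : ∀ i, ∃ (R : (Fin (cY.n + 1) → ℂ) → ℂ), Diff R ∧ R 0 = 0 ∧
      ∀ᶠ y in 𝓝 x, cX.κ y i = R (cY.κ (Pts.map f y)) := by
    intro i
    obtain ⟨a, ha⟩ := φ_mem_range f x (X.presheaf.germ cX.U (Pts.pt x) cX.hx (cX.s i))
    obtain ⟨g, rfl⟩ := cY.toStalk_surjective a
    obtain ⟨R, hR, rfl⟩ := exists_mk g
    have h1 := congrArg (toGerm (x : top X)) ha
    rw [toGerm_ψ, cY.toGerm_toStalk, Chart.pullGerm_mk, toGerm_φ_germ] at h1
    have h2 : (fun y => R (cY.κ (Pts.map f y))) =ᶠ[𝓝 x] evF cX.U (cX.s i) := Germ.coe_eq.mp h1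
    refine ⟨R, hR, ?_, h2.mono fun y hy => hy.symm⟩
    have h3 := h2.self_of_nhds
    simp only [cY.κ_self] at h3
    rw [h3, evF_of_mem _ cX.hx, cX.zero i]
  choose R hR hR0 hRe using hcoord
  intro b
  obtain ⟨g, rfl⟩ := cX.toStalk_surjective b
  obtain ⟨F, hF, rfl⟩ := exists_mk g
  have hR0' : (fun i => R i 0) = 0 := funext hR0
  have hH : Diff fun z => F fun i => R i z := by
    have hc : Tendsto (fun z : Fin (cY.n + 1) → ℂ => fun i => R i z) (𝓝 0) (𝓝 0) := by
      rw [← hR0']
      exact tendsto_pi_nhds.mpr fun i => (hR i).self_of_nhds.continuousAt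
    filter_upwards [eventually_all.mpr hR, hc.eventually hF] with z hz hzF
    exact hzF.comp z (differentiableAt_pi.mpr hz)
  refine ⟨cY.toStalk (Groth.L02.An.mk _ hH), toGerm_injective (x : top X) ?_⟩
  rw [toGerm_ψ, cY.toGerm_toStalk, cX.toGerm_toStalk, Chart.pullGerm_mk, Chart.pullGerm_mk]
  refine Germ.coe_eq.mpr ?_
  filter_upwards [eventually_all.mpr hRe] with y hy
  show F (fun i => R i (cY.κ (Pts.map f y))) = F (cX.κ y)
  exact congrArg F (funext hy).symm

theorem etale_iff [IsReduced X] [IsReduced Y] : Etale f ↔ ∀ x : Pts X, Function.Bijective (ψ f x) := by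
  refine ⟨fun hf x => ⟨?_, ψ_surjective f x⟩, fun h => ?_⟩
  · have hfl : (ψ f x).Flat := (flat_iff f).mp inferInstance x
    algebraize [ψ f x]
    have : IsLocalHom (algebraMap ((holPresheaf Y).stalk (Pts.map f x : top Y))
        ((holPresheaf X).stalk (x : top X))) := isLocalHom_ψ f x
    have := Module.FaithfullyFlat.of_flat_of_isLocalHom (A := (holPresheaf Y).stalk (Pts.map f x : top Y))
      (B := (holPresheaf X).stalk (x : top X))
    exact FaithfulSMul.algebraMap_injective ((holPresheaf Y).stalk (Pts.map f x : top Y))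
      ((holPresheaf X).stalk (x : top X))
  · have hflat : Flat f := (flat_iff f).mpr fun x => RingHom.Flat.of_bijective (h x)
    have hunr : FormallyUnramified f := (unramified_iff f).mpr fun x =>
      eq_maximalIdeal ((Ideal.map_eq_top_or_isMaximal_of_surjective _ (h x).2
        (maximalIdeal.isMaximal _)).resolve_left fun htop => (maximalIdeal.isMaximal _).ne_top (top_le_iff.mp
          (htop ▸ ((IsLocalRing.local_hom_TFAE (ψ f x)).out 0 2 rfl rfl).mp (isLocalHom_ψ f x))))
    have := locallyOfFiniteType_hom f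
    have := Groth.L02.An.isLocallyNoetherian (X := Y)
    exact Etale.of_formallyUnramified_of_flat f

end Groth.L02.An
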