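import Groth.Agent.L02.An.Germ.Compare
import Groth.Agent.L05.Point.Stalk
import Groth.Agent.L06.FibreComp
import Groth.Agent.L20.LocalCriterion
import Mathlib.AlgebraicGeometry.Morphisms.Etale

/-!
Analytic stalk maps of morphisms of schemes.
-/

noncomputable section

open AlgebraicGeometry CategoryTheory TopologicalSpace Opposite IsLocalRing Filter Topology

namespace Groth.L02.An

open _root_.An

set_option backward.isDefEq.respectTransparency.types false

variable {X Y : Scheme.{0}} [X.Over SC] [Y.Over SC] (f : X ⟶ Y) [f.IsOver SC] (x : Pts X)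

/-- The map of analytic local rings induced by a morphism. -/
def ψ : (holPresheaf Y).stalk (Pts.map f x : top Y) →+* (holPresheaf X).stalk (x : top X) :=
  (PresheafedSpace.Hom.stalkMap (anMap f) x).hom

theorem toGerm_φ_germ (U : X.Opens) (h : Pts.pt x ∈ U) (s : Γ(X, U)) :
    toGerm (x : top X) (φ x (X.presheaf.germ U (Pts.pt x) h s)) = Germ.ofFun (evF U s) := by
  have h1 := congrArg (fun g => g s) (PresheafedSpace.stalkMap_germ (anToScheme X) U (x : top X) h)
  refine (congrArg (toGerm (x : top X)) h1).trans ((toGerm_germ (x : top X) _ h _).trans ?_)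
  refine Germ.coe_eq.mpr ?_
  filter_upwards [Groth.L02.An.eventually_mem (X := X) x h] with y hy
  exact (extend_of_mem _ _ (show y ∈ (Opens.map (anToScheme X).base).obj U from hy)).trans
    (evF_of_mem s hy).symm

theorem ψ_germ (V : Opens (top Y)) (h : (Pts.map f x : top Y) ∈ V) (g : (holPresheaf Y).obj (op V)) :
    ψ f x ((holPresheaf Y).germ V (Pts.map f x : top Y) h g) =
      (holPresheaf X).germ ((Opens.map (topMap f)).obj V) (x : top X) h (anMapApp f V g) :=
  congrArg (fun φ => φ g) (PresheafedSpace.stalkMap_germ (anMap f) V (x : top X) h)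

omit [f.IsOver SC] in
theorem germ_sm' (U : Y.Opens) (h : f (Pts.pt x) ∈ U) (s : Γ(Y, U)) :
    (f.stalkMap (Pts.pt x)).hom (Y.presheaf.germ U (f (Pts.pt x)) h s) =
      X.presheaf.germ (f ⁻¹ᵁ U) (Pts.pt x) h (f.app U s) :=
  Scheme.Hom.germ_stalkMap_apply f U (Pts.pt x) h s

/-- The algebraic stalk map at a complex point. -/
def sm : Y.presheaf.stalk (Pts.pt (Pts.map f x)) →+* X.presheaf.stalk (Pts.pt x) :=
  (f.stalkMap (Pts.pt x)).hom

theorem sm_germ (U : Y.Opens) (h : Pts.pt (Pts.map f x) ∈ U) (s : Γ(Y, U)) :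
    sm f x (Y.presheaf.germ U (Pts.pt (Pts.map f x)) h s) =
      X.presheaf.germ (f ⁻¹ᵁ U) (Pts.pt x) h (f.app U s) :=
  germ_sm' f x U h s

theorem ψ_φ (a : Y.presheaf.stalk (Pts.pt (Pts.map f x))) :
    ψ f x (φ (Pts.map f x) a) = φ x (sm f x a) := by
  obtain ⟨U, h, s, rfl⟩ := TopCat.Presheaf.exists_germ_eq Y.presheaf a
  refine toGerm_injective (x : top X) ?_
  have h1 := congrArg (fun g => g s) (PresheafedSpace.stalkMap_germ (anToScheme Y) U (Pts.map f x : top Y) h)
  have h2 := Scheme.Hom.germ_stalkMap_apply f U (Pts.pt x) h s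
  refine (congrArg (fun b => toGerm (x : top X) (ψ f x b)) h1).trans ?_
  refine Eq.trans ?_ (congrArg (fun b => toGerm (x : top X) (φ x b)) h2).symm
  refine (congrArg (toGerm (x : top X)) (ψ_germ f x _ h _)).trans ?_
  refine (toGerm_germ (x : top X) _ h _).trans (Eq.trans ?_ (toGerm_φ_germ x (f ⁻¹ᵁ U) h (f.app U s)).symm)
  refine Germ.coe_eq.mpr ?_
  filter_upwards [Groth.L02.An.eventually_mem (X := X) x (U := f ⁻¹ᵁ U) h] with y hy
  refine Eq.trans ((extend_of_mem _ _ (show y ∈ (Opens.map (topMap f)).obj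
    ((Opens.map (anToScheme Y).base).obj U) from hy)).trans ?_) (evF_of_mem _ hy).symm
  exact Pts.ev_map f y U hy s

/-- The value of an algebraic germ. -/
def valS : X.presheaf.stalk (Pts.pt x) →+* ℂ :=
  Germ.valueRingHom.comp ((toGerm (x : top X)).comp (φ x))

theorem valS_germ (U : X.Opens) (h : Pts.pt x ∈ U) (s : Γ(X, U)) :
    valS x (X.presheaf.germ U (Pts.pt x) h s) = Pts.ev x U h s := by
  show Germ.value (toGerm (x : top X) (φ x _)) = _
  rw [toGerm_φ_germ]
  exact evF_of_mem s h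

theorem valS_stalkMap (a : Y.presheaf.stalk (Pts.pt (Pts.map f x))) :
    valS x (sm f x a) = valS (Pts.map f x) a := by
  obtain ⟨U, h, s, rfl⟩ := TopCat.Presheaf.exists_germ_eq Y.presheaf a
  rw [valS_germ]
  refine (congrArg (valS x) (Scheme.Hom.germ_stalkMap_apply f U (Pts.pt x) h s)).trans ?_
  rw [valS_germ]
  exact (Pts.ev_map f x U h s).symm

theorem valS_surjective : Function.Surjective (valS x) := fun c =>
  ⟨X.presheaf.germ ⊤ (Pts.pt x) trivial (strHom X c), by rw [valS_germ]; exact ev_top_strHom x c⟩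

theorem ker_valS : RingHom.ker (valS x) = maximalIdeal (X.presheaf.stalk (Pts.pt x)) :=
  eq_maximalIdeal (RingHom.ker_isMaximal_of_surjective _ (valS_surjective x))

theorem exists_sub_stalkMap_mem (b : X.presheaf.stalk (Pts.pt x)) :
    ∃ a : Y.presheaf.stalk (Pts.pt (Pts.map f x)),
      b - sm f x a ∈ maximalIdeal (X.presheaf.stalk (Pts.pt x)) := by
  obtain ⟨a, ha⟩ := valS_surjective (Pts.map f x) (valS x b)
  refine ⟨a, ?_⟩
  rw [← ker_valS, RingHom.mem_ker, map_sub, sub_eq_zero, ← ha]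
  exact (valS_stalkMap f x a).symm

theorem eq_univ_of_isOpen {U : Set X} [LocallyOfFiniteType (X ↘ SC)] (hU : IsOpen U)
    (h : ∀ x : Pts X, Pts.pt x ∈ U) : U = Set.univ := by
  have : JacobsonSpace X := LocallyOfFiniteType.jacobsonSpace (X ↘ SC)
  rw [← Set.compl_empty_iff]
  by_contra hne
  obtain ⟨p, hp, hpc⟩ := nonempty_inter_closedPoints (Set.nonempty_iff_ne_empty.mpr hne)
    hU.isClosed_compl.isLocallyClosed
  obtain ⟨y, rfl⟩ := exists_pt_eq (X := X) hpc
  exact hp (h y)

end Groth.L02.An
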