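import Groth.Agent.L02.An.Germ.Division
import Mathlib.RingTheory.Finiteness.Basic
import Mathlib.RingTheory.Noetherian.Basic
import Mathlib.Analysis.Normed.Module.Convex

/-!
Rückert's basis theorem: germs of holomorphic functions form a Noetherian ring.
-/

noncomputable section

open Filter Topology Metric

namespace Groth.L02.An

variable {n m : ℕ}

/-- Pull back of germs along a linear map. -/
def pull (L : (Fin m → ℂ) →L[ℂ] (Fin n → ℂ)) : O n →+* O m :=
  RingHom.codRestrict ((RingHom.comp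
    { toFun := fun g => g.compTendsto L (L.continuous.tendsto' 0 0 (map_zero L))
      map_one' := rfl
      map_mul' := fun a b => Germ.inductionOn₂ a b fun _ _ => rfl
      map_zero' := rfl
      map_add' := fun a b => Germ.inductionOn₂ a b fun _ _ => rfl }
    (hol n).subtype : O n →+* Germ (𝓝 (0 : Fin m → ℂ)) ℂ)) (hol m) (by
      rintro ⟨_, f, hf, rfl⟩
      exact ⟨fun z => f (L z), ((L.continuous.tendsto' 0 0 (map_zero L)).eventually hf).mono
        fun z hz => hz.comp z L.differentiableAt, rfl⟩)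

theorem pull_mk (L : (Fin m → ℂ) →L[ℂ] (Fin n → ℂ)) (f : (Fin n → ℂ) → ℂ) (hf : Diff f) :
    (pull L (mk f hf) : Germ (𝓝 (0 : Fin m → ℂ)) ℂ) = Germ.ofFun fun z => f (L z) := rfl

theorem pull_bijective (L : (Fin n → ℂ) ≃L[ℂ] (Fin n → ℂ)) :
    Function.Bijective (pull (L : (Fin n → ℂ) →L[ℂ] (Fin n → ℂ))) := by
  refine Function.bijective_iff_has_inverse.mpr ⟨pull (L.symm : (Fin n → ℂ) →L[ℂ] (Fin n → ℂ)),
    fun g => ?_, fun g => ?_⟩
  all_goals
    obtain ⟨f, hf, rfl⟩ := exists_mk g
    refine Subtype.ext (Germ.coe_eq.mpr (.of_forall fun z => ?_))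
    simp

theorem eventually_zero_of_lines {f : (Fin n → ℂ) → ℂ} (hf : Diff f)
    (h : ∀ v : Fin n → ℂ, ∀ᶠ t : ℂ in 𝓝 0, f (t • v) = 0) : f =ᶠ[𝓝 0] 0 := by
  obtain ⟨R, hR, hfR⟩ := Metric.eventually_nhds_iff_ball.mp hf
  refine Metric.eventually_nhds_iff_ball.mpr ⟨R, hR, fun z hz => ?_⟩
  rw [mem_ball_zero_iff] at hz
  obtain ⟨c, hc, hcR⟩ : ∃ c : ℝ, 1 < c ∧ c * ‖z‖ < R := by
    rcases eq_or_ne ‖z‖ 0 with h0 | h0
    · exact ⟨2, one_lt_two, by rw [h0]; simpa using hR⟩
    · have hz' : 0 < ‖z‖ := lt_of_le_of_ne (norm_nonneg z) h0.symm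
      exact ⟨(‖z‖ + R) / (2 * ‖z‖), by rw [lt_div_iff₀ (by positivity)]; linarith,
        by field_simp; linarith⟩
  have hd : DifferentiableOn ℂ (fun t : ℂ => f (t • z)) (ball 0 c) := fun t ht => by
    refine DifferentiableAt.differentiableWithinAt ((hfR _ ?_).comp t (differentiableAt_id.smul_const z))
    rw [mem_ball_zero_iff] at ht ⊢
    show ‖t • z‖ < R
    rw [norm_smul]
    exact (mul_le_mul_of_nonneg_right ht.le (norm_nonneg z)).trans_lt hcR
  have key := (hd.analyticOnNhd isOpen_ball).eqOn_zero_of_preconnected_of_eventuallyEq_zero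
    (convex_ball (0 : ℂ) c).isPreconnected (mem_ball_self (by linarith)) (h z)
    (show (1 : ℂ) ∈ ball (0 : ℂ) c by simpa using hc)
  simpa using key

/-- After a linear change of coordinates a nonzero germ is regular in the first variable. -/
theorem exists_regular (g : O (n + 1)) (hg : g ≠ 0) :
    ∃ (L : (Fin (n + 1) → ℂ) ≃L[ℂ] (Fin (n + 1) → ℂ)) (f : (Fin (n + 1) → ℂ) → ℂ) (hf : Diff f)
      (s : ℕ) (u : ℂ → ℂ), AnalyticAt ℂ u 0 ∧ u 0 ≠ 0 ∧
      (∀ᶠ w in 𝓝 0, f (Fin.cons w 0) = w ^ s * u w) ∧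
      pull (L : (Fin (n + 1) → ℂ) →L[ℂ] (Fin (n + 1) → ℂ)) g = mk f hf := by
  obtain ⟨f, hf, rfl⟩ := exists_mk g
  obtain ⟨v, hv⟩ : ∃ v : Fin (n + 1) → ℂ, v ≠ 0 ∧ ¬ ∀ᶠ t : ℂ in 𝓝 0, f (t • v) = 0 := by
    by_contra hc
    push Not at hc
    refine hg (Subtype.ext (Germ.coe_eq.mpr (eventually_zero_of_lines hf fun v => ?_)))
    rcases eq_or_ne v 0 with rfl | hv
    · have h1 := hc (Pi.single 0 1) (by simp)
      have := h1.self_of_nhds
      simp only [zero_smul] at this
      exact .of_forall fun t => by rw [smul_zero]; exact this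
    · exact hc v hv
  obtain ⟨i₀, hi₀⟩ := Function.ne_iff.mp hv.1
  let Lm : (Fin (n + 1) → ℂ) →ₗ[ℂ] (Fin (n + 1) → ℂ) :=
    { toFun := fun z => z 0 • v + ∑ j : Fin n, z j.succ • Pi.single (i₀.succAbove j) (1 : ℂ)
      map_add' := fun a b => by
        simp only [Pi.add_apply, add_smul, Finset.sum_add_distrib]; abel
      map_smul' := fun c a => by
        simp only [Pi.smul_apply, smul_eq_mul, mul_smul, RingHom.id_apply, smul_add, Finset.smul_sum] }
  have hLm : ∀ z i, Lm z i = z 0 * v i + ∑ j : Fin n, z j.succ * (Pi.single (i₀.succAbove j) (1 : ℂ) : Fin (n + 1) → ℂ) i :=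
    fun z i => by simp [Lm, Finset.sum_apply]
  have hinj : Function.Injective Lm := by
    rw [injective_iff_map_eq_zero]
    intro z hz
    have h0 : z 0 = 0 := by
      have := congrFun hz i₀
      rw [hLm, Finset.sum_eq_zero (fun j _ => by
        rw [Pi.single_eq_of_ne (Fin.succAbove_ne i₀ j).symm, mul_zero]), add_zero] at this
      exact (mul_eq_zero.mp this).resolve_right hi₀
    funext i
    refine Fin.cases h0 (fun j => ?_) i
    have := congrFun hz (i₀.succAbove j)
    rw [hLm, h0, zero_mul, zero_add, Finset.sum_eq_single j (fun k _ hk => by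
      rw [Pi.single_eq_of_ne (fun e => hk (Fin.succAbove_right_injective e).symm), mul_zero])
      (fun h => absurd (Finset.mem_univ j) h), Pi.single_eq_same, mul_one] at this
    exact this
  let L : (Fin (n + 1) → ℂ) ≃L[ℂ] (Fin (n + 1) → ℂ) :=
    (LinearEquiv.ofInjectiveEndo Lm hinj).toContinuousLinearEquiv
  have hLe : ∀ w : ℂ, L (Fin.cons w 0) = w • v := fun w => by
    funext i
    show Lm (Fin.cons w 0) i = _
    rw [hLm]
    simp
  have hd : Diff fun z => f (L z) :=
    ((L.continuous.tendsto' 0 0 (map_zero L)).eventually hf).mono fun z hz => hz.comp z L.differentiableAt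
  have han : AnalyticAt ℂ (fun w : ℂ => f (w • v)) 0 := by
    obtain ⟨R, hR, hfR⟩ := Metric.eventually_nhds_iff_ball.mp hf
    have hc : Continuous fun w : ℂ => w • v := by fun_prop
    obtain ⟨ε, hε, hball⟩ := Metric.isOpen_iff.mp (isOpen_ball.preimage hc) 0
      (show (0 : ℂ) • v ∈ ball (0 : Fin (n + 1) → ℂ) R by rw [zero_smul]; exact mem_ball_self hR)
    exact DifferentiableOn.analyticAt (fun w hw => DifferentiableAt.differentiableWithinAt
      ((hfR _ (hball hw)).comp w (differentiableAt_id.smul_const v))) (ball_mem_nhds 0 hε)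
  obtain ⟨s, u, hu, hu0, hus⟩ := han.exists_eventuallyEq_pow_smul_nonzero_iff.mpr hv.2
  exact ⟨L, fun z => f (L z), hd, s, u, hu, hu0, hus.mono fun w hw => by
    show f (L (Fin.cons w 0)) = _
    rw [hLe, hw, sub_zero, smul_eq_mul], rfl⟩

theorem isNoetherianRing_zero : IsNoetherianRing (O 0) := by
  refine isNoetherianRing_of_surjective ℂ (O 0) cst fun g => ?_
  obtain ⟨f, hf, rfl⟩ := exists_mk g
  exact ⟨f 0, Subtype.ext (Germ.coe_eq.mpr (.of_forall fun z => by rw [Subsingleton.elim z 0]))⟩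

/-- Rückert's basis theorem. -/
instance isNoetherianRing (n : ℕ) : IsNoetherianRing (O n) := by
  induction n with
  | zero => exact isNoetherianRing_zero
  | succ n ih =>
    refine (isNoetherianRing_iff_ideal_fg _).mpr fun I => ?_
    by_cases hI : I = ⊥
    · exact hI ▸ Submodule.fg_bot
    obtain ⟨g, hgI, hg⟩ := Submodule.exists_mem_ne_zero_of_ne_bot hI
    obtain ⟨L, f, hf, s, u, hu, hu0, hus, hLg⟩ := exists_regular g hg
    let e := RingEquiv.ofBijective _ (pull_bijective L)
    have heI : mk f hf ∈ I.map (e : O (n + 1) →+* O (n + 1)) :=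
      hLg ▸ Ideal.mem_map_of_mem (e : O (n + 1) →+* O (n + 1)) hgI
    suffices h : (I.map (e : O (n + 1) →+* O (n + 1))).FG by
      have h2 := h.map (e.symm : O (n + 1) →+* O (n + 1))
      rwa [Ideal.map_map, show (e.symm : O (n + 1) →+* O (n + 1)).comp (e : O (n + 1) →+* O (n + 1)) =
        RingHom.id _ from RingHom.ext fun x => e.symm_apply_apply x, Ideal.map_id] at h2
    let _ : Algebra (O n) (O (n + 1)) := (emb : O n →+* O (n + 1)).toAlgebra
    have hQ : IsNoetherian (O (n + 1)) (O (n + 1) ⧸ Ideal.span {mk f hf}) := by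
      classical
      have : Module.Finite (O n) (O (n + 1) ⧸ Ideal.span {mk f hf}) := by
        refine ⟨⟨Finset.univ.image fun j : Fin s => Ideal.Quotient.mk _ (coo 0 ^ (j : ℕ)), ?_⟩⟩
        rw [eq_top_iff]
        rintro x -
        obtain ⟨y, rfl⟩ := Ideal.Quotient.mk_surjective x
        obtain ⟨q, c, rfl⟩ := exists_division f hf s u hu hu0 hus y
        rw [map_add, map_mul, Ideal.Quotient.eq_zero_iff_mem.mpr (Ideal.mem_span_singleton_self (mk f hf)),
          mul_zero, zero_add, map_sum]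
        refine Submodule.sum_mem _ fun j _ => ?_
        rw [map_mul, mul_comm]
        exact Submodule.smul_mem (R := O n) _ (c j) (Submodule.subset_span
          (Finset.mem_coe.mpr (Finset.mem_image.mpr ⟨j, Finset.mem_univ _, rfl⟩)))
      exact isNoetherian_of_tower (O n) (isNoetherian_of_isNoetherianRing_of_finite _ _)
    refine Submodule.fg_of_fg_map_of_fg_inf_ker
      (Submodule.mkQ (Ideal.span {mk f hf} : Submodule (O (n + 1)) (O (n + 1)))) ?_ ?_
    · exact hQ.noetherian _
    · rw [Submodule.ker_mkQ, inf_of_le_right ((Ideal.span_singleton_le_iff_mem _).mpr heI)]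
      exact Submodule.fg_span_singleton _

end Groth.L02.An
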