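import Groth.Agent.L02.An.Germ.Trace
import Mathlib.RingTheory.NoetherNormalization
import Mathlib.RingTheory.Filtration

/-!
Functions vanishing to high order on a reduced affine complex variety.
-/

noncomputable section

namespace Groth.L02.An

theorem mem_pow_of_mul_mem {A : Type} [CommRing A] {m : Ideal A} (hm : m.IsMaximal) {e a : A} (he : e ∉ m)
    {k : ℕ} (h : e * a ∈ m ^ k) : a ∈ m ^ k := by
  have hsup : Ideal.span {e} ⊔ m ^ k = ⊤ := Ideal.sup_pow_eq_top (by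
    refine hm.1.2 _ (lt_of_le_of_ne le_sup_right fun h0 => he ?_)
    rw [h0]
    exact Ideal.mem_sup_left (Ideal.mem_span_singleton_self e))
  obtain ⟨u, hu, y, hy, hu1⟩ := Submodule.mem_sup.mp (hsup ▸ Submodule.mem_top : (1 : A) ∈ Ideal.span {e} ⊔ m ^ k)
  obtain ⟨r, rfl⟩ := Ideal.mem_span_singleton.mp hu
  have : a = r * (e * a) + y * a := by linear_combination (-a) * hu1
  rw [this]
  exact add_mem (Ideal.mul_mem_left _ _ h) (Ideal.mul_mem_right _ _ hy)

theorem exists_mem_pow_of_isDomain (A : Type) [CommRing A] [IsDomain A] [Algebra ℂ A]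
    [Algebra.FiniteType ℂ A] {ι : Type} [Fintype ι] [Nonempty ι] (s : ι → A) (χ : A →ₐ[ℂ] ℂ) (k : ℕ) :
    ∃ K : ℕ, ∀ a, Small s χ a K → a ∈ RingHom.ker χ ^ k := by
  obtain ⟨d, φ, hinj, hfin⟩ := exists_finite_inj_algHom_of_fg ℂ A
  let _ := φ.toRingHom.toAlgebra
  have : IsScalarTower ℂ (MvPolynomial (Fin d) ℂ) A :=
    .of_algebraMap_eq fun c => (φ.commutes c).symm
  have : FaithfulSMul (MvPolynomial (Fin d) ℂ) A :=
    (faithfulSMul_iff_algebraMap_injective _ _).mpr hinj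
  have : Module.Finite (MvPolynomial (Fin d) ℂ) A := hfin
  obtain ⟨K, hK⟩ := exists_mul_mem_pow_of_finite d s χ k
  refine ⟨K, fun a ha => ?_⟩
  obtain ⟨e, he, hea⟩ := hK a ha
  exact mem_pow_of_mul_mem (RingHom.ker_isMaximal_of_surjective χ fun c => ⟨algebraMap ℂ A c, χ.commutes c⟩)
    he hea

/-- On a reduced affine variety a function vanishing to high order at a point lies in a high power of
its maximal ideal. -/
theorem exists_mem_pow_of_small (A : Type) [CommRing A] [IsReduced A] [Algebra ℂ A]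
    [Algebra.FiniteType ℂ A] {ι : Type} [Fintype ι] [Nonempty ι] (s : ι → A) (χ : A →ₐ[ℂ] ℂ) (k : ℕ) :
    ∃ K : ℕ, ∀ a, Small s χ a K → a ∈ RingHom.ker χ ^ k := by
  classical
  have : IsNoetherianRing A := Algebra.FiniteType.isNoetherianRing ℂ A
  have hfin := minimalPrimes.finite_of_isNoetherianRing A
  let S := hfin.toFinset.filter (· ≤ RingHom.ker χ)
  let L : A →ₗ[A] ∀ P : S, A ⧸ (P : Ideal A) := LinearMap.pi fun P => Submodule.mkQ (P : Ideal A)
  obtain ⟨c, hc⟩ := (RingHom.ker χ).exists_pow_inf_eq_pow_smul (M := ∀ P : S, A ⧸ (P : Ideal A))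
    (LinearMap.range L)
  have hex : ∀ P : S, ∃ K : ℕ, ∀ a, Small s χ a K → ∃ y ∈ RingHom.ker χ ^ (k + c), a - y ∈ (P : Ideal A) := by
    intro P
    obtain ⟨hPm, hPle⟩ := Finset.mem_filter.mp P.2
    have : (P : Ideal A).IsPrime := (hfin.mem_toFinset.mp hPm).1.1
    let χ' : (A ⧸ (P : Ideal A)) →ₐ[ℂ] ℂ := Ideal.Quotient.liftₐ _ χ fun a ha => hPle ha
    obtain ⟨K, hK⟩ := exists_mem_pow_of_isDomain (A ⧸ (P : Ideal A)) (fun i => Ideal.Quotient.mk _ (s i)) χ' (k + c)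
    refine ⟨K, fun a ⟨ρ, C, hρ, hC⟩ => ?_⟩
    have h1 := hK (Ideal.Quotient.mk _ a) ⟨ρ, C, hρ, fun ψ hψ =>
      hC (ψ.comp (Ideal.Quotient.mkₐ ℂ (P : Ideal A))) hψ⟩
    have h2 : RingHom.ker χ' ≤ (RingHom.ker χ).map (Ideal.Quotient.mk (P : Ideal A)) := by
      intro x hx
      obtain ⟨y, rfl⟩ := Ideal.Quotient.mk_surjective x
      exact Ideal.mem_map_of_mem _ (show y ∈ RingHom.ker χ from hx)
    replace h1 := Ideal.pow_right_mono h2 _ h1
    rw [← Ideal.map_pow, Ideal.mem_map_iff_of_surjective _ Ideal.Quotient.mk_surjective] at h1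
    obtain ⟨y, hy, hya⟩ := h1
    exact ⟨y, hy, Ideal.Quotient.eq.mp hya.symm⟩
  choose K hK using hex
  refine ⟨Finset.univ.sup K, fun a ⟨ρ, C, hρ, hC⟩ => ?_⟩
  have hsm : ∀ P : S, Small s χ a (K P) := fun P => ⟨min ρ 1, |C|, lt_min hρ one_pos, fun ψ hψ =>
    (hC ψ (hψ.trans_le (min_le_left _ _))).trans (mul_le_mul (le_abs_self C)
      (pow_le_pow_of_le_one (norm_nonneg _) (hψ.trans_le (min_le_right _ _)).le
        (Finset.le_sup (Finset.mem_univ P))) (pow_nonneg (norm_nonneg _) _) (abs_nonneg C))⟩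
  choose y hy hay using fun P => hK P a (hsm P)
  have hLa : L a ∈ RingHom.ker χ ^ (k + c) • (⊤ : Submodule A (∀ P : S, A ⧸ (P : Ideal A))) ⊓ LinearMap.range L := by
    refine ⟨?_, LinearMap.mem_range_self L a⟩
    have : L a = ∑ P : S, y P • (Pi.single P 1 : ∀ P : S, A ⧸ (P : Ideal A)) := by
      funext Q
      rw [Finset.sum_apply, Finset.sum_eq_single Q (fun P _ hP => by
        rw [Pi.smul_apply, Pi.single_eq_of_ne hP.symm, smul_zero]) (fun h => absurd (Finset.mem_univ Q) h),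
        Pi.smul_apply, Pi.single_eq_same]
      show Submodule.Quotient.mk a = _
      rw [Algebra.smul_def, mul_one]
      exact Ideal.Quotient.eq.mpr (hay Q)
    rw [this]
    exact sum_mem fun P _ => Submodule.smul_mem_smul (hy P) Submodule.mem_top
  rw [hc _ (by omega), Nat.add_sub_cancel] at hLa
  have h3 : L a ∈ Submodule.map L (RingHom.ker χ ^ k • ⊤) := by
    rw [Submodule.map_smul'', Submodule.map_top]
    exact Submodule.smul_mono le_rfl inf_le_right hLa
  obtain ⟨z, hz, hza⟩ := h3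
  rw [smul_eq_mul, Ideal.mul_top] at hz
  let T := hfin.toFinset.filter (fun P => ¬ P ≤ RingHom.ker χ)
  have hT : ∀ P ∈ T, ∃ w ∈ P, χ w ≠ 0 := fun P hP => SetLike.not_le_iff_exists.mp (Finset.mem_filter.mp hP).2
  choose! w hw hwχ using hT
  refine mem_pow_of_mul_mem (RingHom.ker_isMaximal_of_surjective χ fun c => ⟨algebraMap ℂ A c, χ.commutes c⟩)
    (e := ∏ P ∈ T, w P) (by rw [RingHom.mem_ker, map_prod]; exact Finset.prod_ne_zero_iff.mpr hwχ) ?_
  have h0 : (∏ P ∈ T, w P) * (a - z) = 0 := by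
    refine IsReduced.eq_zero _ (mem_nilradical.mp ?_)
    rw [nilradical_eq_sInf, Submodule.mem_sInf]
    intro Q hQ
    have : Ideal.IsPrime Q := hQ
    obtain ⟨P, hP, hPQ⟩ := Ideal.exists_minimalPrimes_le (I := (⊥ : Ideal A)) (J := Q) bot_le
    refine hPQ ?_
    by_cases hPχ : P ≤ RingHom.ker χ
    · have hPS : P ∈ S := Finset.mem_filter.mpr ⟨hfin.mem_toFinset.mpr hP, hPχ⟩
      exact Ideal.mul_mem_left _ _ (Ideal.Quotient.eq.mp (congrFun hza.symm ⟨P, hPS⟩))
    · have hPT : P ∈ T := Finset.mem_filter.mpr ⟨hfin.mem_toFinset.mpr hP, hPχ⟩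
      rw [← Finset.mul_prod_erase T w hPT]
      exact Ideal.mul_mem_right _ _ (Ideal.mul_mem_right _ _ (hw P hPT))
  rw [mul_sub, sub_eq_zero] at h0
  rw [h0]
  exact Ideal.mul_mem_left _ _ hz

end Groth.L02.An
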