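import Mathlib.Analysis.Calculus.ParametricIntervalIntegral
import Mathlib.Analysis.Calculus.SmoothSeries
import Mathlib.Analysis.Complex.CauchyIntegral
import Mathlib.Analysis.Complex.Liouville
import Mathlib.Analysis.Calculus.LineDeriv.Basic
import Mathlib.Analysis.Normed.Module.FiniteDimension

/-!
Holomorphic dependence on parameters of integrals and series.
-/

noncomputable section

open Filter Topology Metric MeasureTheory

namespace Groth.L02.An

variable {E : Type*} [NormedAddCommGroup E] [NormedSpace ℂ E]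

/-- Cauchy's estimate: a bounded holomorphic function has bounded derivative. -/
theorem norm_fderiv_le {f : E → ℂ} {x : E} {R M : ℝ} (hR : 0 < R)
    (hd : DifferentiableOn ℂ f (ball x R)) (hM : ∀ y ∈ ball x R, ‖f y‖ ≤ M) :
    ‖fderiv ℂ f x‖ ≤ 2 * M / R := by
  have hM0 : 0 ≤ M := le_trans (norm_nonneg _) (hM x (mem_ball_self hR))
  refine ContinuousLinearMap.opNorm_le_bound _ (by positivity) fun v => ?_
  rcases eq_or_ne v 0 with rfl | hv
  · simp
  have hv' : 0 < ‖v‖ := norm_pos_iff.mpr hv
  set r := R / (2 * ‖v‖)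
  have hr : 0 < r := by positivity
  have hmem : ∀ s : ℂ, ‖s‖ ≤ r → x + s • v ∈ ball x R := fun s hs => by
    rw [mem_ball, dist_eq_norm, add_sub_cancel_left, norm_smul]
    calc ‖s‖ * ‖v‖ ≤ r * ‖v‖ := by gcongr
      _ = R / 2 := by simp only [r]; field_simp
      _ < R := by linarith
  have hline : ∀ s : ℂ, HasDerivAt (fun t : ℂ => x + t • v) v s := fun s => by
    simpa using ((hasDerivAt_id s).smul_const v).const_add x
  have hg : DifferentiableOn ℂ (fun s : ℂ => f (x + s • v)) (closedBall 0 r) := fun s hs =>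
    (((hd.differentiableAt (isOpen_ball.mem_nhds (hmem s (by simpa using hs)))).comp s
      (hline s).differentiableAt)).differentiableWithinAt
  have hd0 : deriv (fun s : ℂ => f (x + s • v)) 0 = fderiv ℂ f x v := by
    have h1 := (hd.differentiableAt (isOpen_ball.mem_nhds (by simpa using hmem 0 (by simp [hr.le])))).hasFDerivAt
      (x := x + (0 : ℂ) • v)
    have h2 := h1.comp_hasDerivAt (0 : ℂ) (hline 0)
    simpa [Function.comp_def] using h2.deriv
  have h3 := Complex.norm_deriv_le_of_forall_mem_sphere_norm_le hr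
    (hg.mono closure_ball_subset_closedBall).diffContOnCl
    (fun s hs => hM _ (hmem s (by simpa using (mem_sphere.mp hs).le)))
  rw [hd0] at h3
  refine h3.trans (le_of_eq ?_)
  simp only [r]
  field_simp

variable [FiniteDimensional ℂ E]

/-- Differentiation under the integral sign, for holomorphic dependence on parameters. -/
theorem differentiableAt_intervalIntegral {F : E → ℝ → ℂ} {x₀ : E} {R : ℝ} (hR : 0 < R) {a b M : ℝ}
    (hF : ∀ θ, DifferentiableOn ℂ (F · θ) (ball x₀ R)) (hc : ∀ x ∈ ball x₀ R, Continuous (F x))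
    (hM : ∀ x ∈ ball x₀ R, ∀ θ, ‖F x θ‖ ≤ M) :
    DifferentiableAt ℂ (fun x => ∫ θ in a..b, F x θ) x₀ := by
  have hball : ∀ x ∈ ball x₀ (R / 2), ball x (R / 2) ⊆ ball x₀ R := fun x hx =>
    ball_subset_ball' (by linarith [mem_ball.mp hx])
  have hx₀ : ball x₀ (R / 2) ∈ 𝓝 x₀ := ball_mem_nhds _ (by linarith)
  have hmeasv : ∀ v : E, AEStronglyMeasurable (fun θ => fderiv ℂ (F · θ) x₀ v)
      (volume.restrict (Set.uIoc a b)) := by
    intro v
    let u : ℕ → ℂ := fun k => (1 / (k + 1 : ℝ) : ℝ)
    have hu : Tendsto u atTop (𝓝[≠] 0) := by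
      refine tendsto_nhdsWithin_iff.mpr ⟨?_, Eventually.of_forall fun k => ?_⟩
      · exact (Complex.continuous_ofReal.tendsto' 0 0 (by simp)).comp tendsto_one_div_add_atTop_nhds_zero_nat
      · simp only [u, Set.mem_compl_iff, Set.mem_singleton_iff, Complex.ofReal_eq_zero]
        positivity
    have hev : ∀ᶠ k in atTop, x₀ + u k • v ∈ ball x₀ R := by
      have hcont : Continuous fun s : ℂ => x₀ + s • v := by fun_prop
      exact (hu.mono_right nhdsWithin_le_nhds).eventually
        (hcont.continuousAt.eventually_mem (by simpa using ball_mem_nhds x₀ hR))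
    obtain ⟨k₀, hk₀⟩ := eventually_atTop.mp hev
    refine aestronglyMeasurable_of_tendsto_ae atTop
      (f := fun k θ => (u (k + k₀))⁻¹ * (F (x₀ + u (k + k₀) • v) θ - F x₀ θ))
      (fun k => ?_) (Eventually.of_forall fun θ => ?_)
    · exact (continuous_const.mul ((hc _ (hk₀ (k + k₀) (Nat.le_add_left _ _))).sub
        (hc _ (mem_ball_self hR)))).aestronglyMeasurable
    · have h1 := ((hF θ).differentiableAt (ball_mem_nhds x₀ hR)).hasFDerivAt
      have h2 := h1.hasLineDerivAt v
      exact ((hasDerivAt_iff_tendsto_slope_zero.mp h2).comp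
        (hu.comp (tendsto_add_atTop_nat k₀))).congr (fun t => by simp)
  have hmeas : AEStronglyMeasurable (fun θ => fderiv ℂ (F · θ) x₀) (volume.restrict (Set.uIoc a b)) := by
    let bs := Module.finBasis ℂ E
    have e : (fun θ => fderiv ℂ (F · θ) x₀) = fun θ => ∑ i, (fderiv ℂ (F · θ) x₀ (bs i)) •
        LinearMap.toContinuousLinearMap (bs.coord i) := by
      funext θ
      ext y
      rw [_root_.sum_apply]
      simp only [smul_apply, LinearMap.coe_toContinuousLinearMap', Module.Basis.coord_apply, smul_eq_mul]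
      conv_lhs => rw [← bs.sum_repr y, map_sum]
      exact Finset.sum_congr rfl fun i _ => by rw [map_smul, smul_eq_mul, mul_comm]
    rw [e]
    exact Finset.aestronglyMeasurable_fun_sum _ fun i _ => (hmeasv _).smul_const _
  have := intervalIntegral.hasFDerivAt_integral_of_dominated_of_fderiv_le (μ := volume) (F := F)
    (F' := fun x θ => fderiv ℂ (F · θ) x) (bound := fun _ => 2 * M / (R / 2)) (a := a) (b := b) hx₀
    ?_ ((hc x₀ (mem_ball_self hR)).intervalIntegrable _ _) hmeas ?_ intervalIntegrable_const ?_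
  · exact this.differentiableAt
  · exact eventually_of_mem (ball_mem_nhds x₀ hR) fun x hx => (hc x hx).aestronglyMeasurable
  · exact Eventually.of_forall fun θ _ x hx => norm_fderiv_le (by linarith) ((hF θ).mono (hball x hx))
      fun y hy => hM y (hball x hx hy) θ
  · exact Eventually.of_forall fun θ _ x hx => ((hF θ).differentiableAt
      (isOpen_ball.mem_nhds (ball_subset_ball (by linarith) hx))).hasFDerivAt

/-- A circle integral depending holomorphically on parameters is holomorphic. -/
theorem differentiableAt_circleIntegral {F : E → ℂ → ℂ} {x₀ : E} {R r : ℝ} (hR : 0 < R) (hr : 0 ≤ r)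
    (hd : ∀ ζ ∈ sphere (0 : ℂ) r, DifferentiableOn ℂ (F · ζ) (ball x₀ R))
    (hc : ContinuousOn (fun p : E × ℂ => F p.1 p.2) (ball x₀ R ×ˢ sphere (0 : ℂ) r)) :
    DifferentiableAt ℂ (fun x => ∮ ζ in C(0, r), F x ζ) x₀ := by
  have : ProperSpace E := FiniteDimensional.proper ℂ E
  have hsub : closedBall x₀ (R / 2) ⊆ ball x₀ R := closedBall_subset_ball (by linarith)
  obtain ⟨M, hM⟩ := ((isCompact_closedBall x₀ (R / 2)).prod (isCompact_sphere (0 : ℂ) r)).exists_bound_of_continuousOn
    (hc.mono (Set.prod_mono hsub subset_rfl))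
  refine differentiableAt_intervalIntegral (F := fun x θ => deriv (circleMap 0 r) θ * F x (circleMap 0 r θ))
    (R := R / 2) (M := |r| * M) (by linarith) (fun θ => ?_) (fun x hx => ?_) (fun x hx θ => ?_)
  · exact (((hd _ (circleMap_mem_sphere 0 hr θ)).mono (ball_subset_closedBall.trans hsub))).const_mul _
  · refine Continuous.fun_mul ?_ ?_
    · rw [show deriv (circleMap 0 r) = fun θ => circleMap 0 r θ * Complex.I from
        funext fun θ => by simp [deriv_circleMap]]
      fun_prop
    · exact hc.comp_continuous (continuous_const.prodMk (continuous_circleMap 0 r))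
        fun θ => ⟨hsub (ball_subset_closedBall hx), circleMap_mem_sphere 0 hr θ⟩
  · rw [norm_mul]
    have h1 := hM (x, circleMap 0 r θ) ⟨ball_subset_closedBall hx, circleMap_mem_sphere 0 hr θ⟩
    gcongr
    exact le_of_eq (by simp [deriv_circleMap])

omit [FiniteDimensional ℂ E] in
/-- A normally convergent series of holomorphic functions is holomorphic. -/
theorem differentiableAt_tsum {f : ℕ → E → ℂ} {u : ℕ → ℝ} (hu : Summable u) {x₀ : E} {R : ℝ} (hR : 0 < R)
    (hd : ∀ k, DifferentiableOn ℂ (f k) (ball x₀ R)) (hb : ∀ k, ∀ x ∈ ball x₀ R, ‖f k x‖ ≤ u k) :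
    DifferentiableAt ℂ (fun x => ∑' k, f k x) x₀ := by
  let _ : NormedSpace ℝ E := NormedSpace.restrictScalars ℝ ℂ E
  refine (hasFDerivAt_tsum_of_isPreconnected (u := fun k => 2 / (R / 2) * u k) (hu.mul_left _)
    isOpen_ball (convex_ball x₀ (R / 2)).isPreconnected
    (fun k x hx => ((hd k).differentiableAt (isOpen_ball.mem_nhds
      (ball_subset_ball (by linarith) hx))).hasFDerivAt) (fun k x hx => ?_) (mem_ball_self (by linarith))
    (.of_norm_bounded hu fun k => hb k x₀ (mem_ball_self hR)) (mem_ball_self (by linarith))).differentiableAt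
  have hball : ball x (R / 2) ⊆ ball x₀ R := ball_subset_ball' (by linarith [mem_ball.mp hx])
  refine (norm_fderiv_le (by linarith) ((hd k).mono hball) fun y hy => hb k y (hball hy)).trans
    (le_of_eq ?_)
  ring

end Groth.L02.An
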