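import Groth.Agent.L02.An.Basic
import Mathlib.Topology.Germ
import Mathlib.Order.Filter.Germ.Basic

/-!
Stalks of the sheaf of holomorphic functions as germs of functions.
-/

noncomputable section

open AlgebraicGeometry CategoryTheory CategoryTheory.Limits TopologicalSpace Opposite Filter Topology

namespace Groth.L02.An

open _root_.An

variable {X : Scheme.{0}} [X.Over SC]

open Classical in
/-- A holomorphic section as a function, extended by zero. -/
def extend (V : Opens (top X)) (g : holSub V) (y : top X) : ℂ := if h : y ∈ V then g.1 ⟨y, h⟩ else 0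

theorem extend_of_mem (V : Opens (top X)) (g : holSub V) {y : top X} (h : y ∈ V) :
    extend V g y = g.1 ⟨y, h⟩ := dif_pos h

/-- The germ at x of a section. -/
def germFun (x : top X) (V : Opens (top X)) (hx : x ∈ V) : holSub V →+* Germ (𝓝 x) ℂ where
  toFun g := Germ.ofFun (extend V g)
  map_one' := Germ.coe_eq.mpr (Filter.eventually_of_mem (V.2.mem_nhds hx) fun y hy => by
    rw [extend_of_mem V _ hy]; rfl)
  map_mul' a b := Germ.coe_eq.mpr (Filter.eventually_of_mem (V.2.mem_nhds hx) fun y hy => by
    show _ = extend V a y * extend V b y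
    simp only [extend_of_mem V _ hy]; rfl)
  map_zero' := Germ.coe_eq.mpr (Filter.eventually_of_mem (V.2.mem_nhds hx) fun y hy => by
    rw [extend_of_mem V _ hy]; rfl)
  map_add' a b := Germ.coe_eq.mpr (Filter.eventually_of_mem (V.2.mem_nhds hx) fun y hy => by
    show _ = extend V a y + extend V b y
    simp only [extend_of_mem V _ hy]; rfl)

/-- The comparison from the stalk to germs of functions. -/
def toGerm (x : top X) : (holPresheaf X).stalk x →+* Germ (𝓝 x) ℂ :=
  CommRingCat.Hom.hom (colimit.desc ((OpenNhds.inclusion x).op ⋙ holPresheaf X)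
    { pt := CommRingCat.of (Germ (𝓝 x) ℂ)
      ι :=
        { app := fun V => CommRingCat.ofHom (germFun x (unop V).1 (unop V).2)
          naturality := fun {V W} i => by
            ext g
            show Germ.ofFun (extend _ _) = Germ.ofFun (extend _ _)
            refine Germ.coe_eq.mpr (Filter.eventually_of_mem ((unop W).1.2.mem_nhds (unop W).2) fun y hy => ?_)
            exact (extend_of_mem (unop W).1 _ hy).trans
              (extend_of_mem (unop V).1 g (i.unop.le hy)).symm } })

theorem toGerm_germ (x : top X) (V : Opens (top X)) (hx : x ∈ V) (g : (holPresheaf X).obj (op V)) :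
    toGerm x ((holPresheaf X).germ V x hx g) = germFun x V hx g := by
  rw [toGerm, TopCat.Presheaf.germ]
  erw [← ConcreteCategory.comp_apply, colimit.ι_desc]
  rfl

theorem toGerm_injective (x : top X) : Function.Injective (toGerm x) := by
  rw [injective_iff_map_eq_zero]
  intro a ha
  obtain ⟨V, hx, g, rfl⟩ := TopCat.Presheaf.exists_germ_eq (holPresheaf X) a
  rw [toGerm_germ] at ha
  have h1 : extend V g =ᶠ[𝓝 x] 0 := Germ.coe_eq.mp ha
  obtain ⟨W, hW, hWo, hxW⟩ := _root_.eventually_nhds_iff.mp (h1.and (V.2.mem_nhds hx))
  let W' : Opens (top X) := ⟨W, hWo⟩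
  have hWV : W' ≤ V := fun y hy => (hW y hy).2
  rw [← TopCat.Presheaf.germ_res_apply (holPresheaf X) (homOfLE hWV) x hxW g,
    show (holPresheaf X).map (homOfLE hWV).op g = 0 from ?_, map_zero]
  refine Subtype.ext (funext fun y => ?_)
  exact (extend_of_mem V g (hWV y.2)).symm.trans (hW y.1 y.2).1

end Groth.L02.An
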