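import Groth.Agent.L02.An.Germ.Noetherian
import Groth.Agent.L02.An.Germ.Nullstellen
import Groth.Agent.L02.An.Germ.ToGerm
import Groth.Agent.L02.An.Affine
import Groth.Agent.L02.An.Dense
import Mathlib.AlgebraicGeometry.Properties

/-!
The analytic local ring of a reduced complex scheme at a point: the quotient of the germs of holomorphic
functions of the ambient space by the ideal of the scheme.
-/

noncomputable section

open AlgebraicGeometry CategoryTheory CategoryTheory.Limits TopologicalSpace Opposite Filter Topology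

namespace Groth.L02.An

open _root_.An

set_option backward.isDefEq.respectTransparency.types false

variable {X : Scheme.{0}} [X.Over SC]

/-- An affine chart centred at a complex point. -/
structure Chart (x : Pts X) where
  U : X.Opens
  hU : IsAffineOpen U
  hx : Pts.pt x ∈ U
  n : ℕ
  s : Fin (n + 1) → Γ(X, U)
  surj : Function.Surjective (MvPolynomial.eval₂Hom (str X U) s)
  zero : ∀ i, Pts.ev x U hx (s i) = 0

theorem exists_chart [LocallyOfFiniteType (X ↘ SC)] (x : Pts X) : Nonempty (Chart x) := by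
  obtain ⟨U, hU, hx⟩ := exists_affine_mem (X := X) x
  obtain ⟨n, s, hs⟩ := exists_generators hU
  let t : Fin (n + 1) → Γ(X, U) := Fin.cons 0 fun i => s i - str X U (Pts.ev x U hx (s i))
  refine ⟨⟨U, hU, hx, n, t, fun a => ?_, fun i => ?_⟩⟩
  · obtain ⟨p, rfl⟩ := hs a
    refine ⟨MvPolynomial.eval₂Hom MvPolynomial.C
      (fun i => MvPolynomial.X i.succ + MvPolynomial.C (Pts.ev x U hx (s i))) p, ?_⟩
    refine congr($(show (MvPolynomial.eval₂Hom (str X U) t).comp (MvPolynomial.eval₂Hom MvPolynomial.C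
      (fun i => MvPolynomial.X i.succ + MvPolynomial.C (Pts.ev x U hx (s i)))) =
      MvPolynomial.eval₂Hom (str X U) s from ?_) p)
    refine MvPolynomial.ringHom_ext (fun c => by simp) fun i => ?_
    simp [t]
  · refine Fin.cases ?_ (fun j => ?_) i
    · simp only [t, Fin.cons_zero]; exact ev_zero _ _ _
    · simp only [t, Fin.cons_succ]
      show val (X := X) x U hx _ = 0
      rw [map_sub, val_str, val_apply, sub_self]

namespace Chart

variable {x : Pts X} (c : Chart x)

/-- The coordinates of a chart. -/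
def κ (y : Pts X) : Fin (c.n + 1) → ℂ := fun i => evF c.U (c.s i) y

theorem κ_of_mem {y : Pts X} (hy : Pts.pt y ∈ c.U) : c.κ y = fun i => Pts.ev y c.U hy (c.s i) :=
  funext fun i => evF_of_mem (c.s i) hy

theorem κ_self : c.κ x = 0 := by rw [c.κ_of_mem c.hx]; exact funext c.zero

theorem tendsto_κ : Tendsto c.κ (𝓝 x) (𝓝 0) := by
  rw [← c.κ_self]
  refine tendsto_pi_nhds.mpr fun i => ?_
  rw [c.κ_of_mem c.hx]
  exact tendsto_evF (X := X) (c.s i) c.hx

theorem eventually_mem : ∀ᶠ y in 𝓝 x, Pts.pt y ∈ c.U := Groth.L02.An.eventually_mem (X := X) x c.hx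

theorem ev_eq_eval {y : Pts X} (hy : Pts.pt y ∈ c.U) (p : MvPolynomial (Fin (c.n + 1)) ℂ) :
    Pts.ev y c.U hy (MvPolynomial.eval₂Hom (str X c.U) c.s p) = MvPolynomial.eval (c.κ y) p := by
  rw [val_eval₂Hom, c.κ_of_mem hy]

/-- Pull back of germs of holomorphic functions of the ambient space. -/
def pullGerm : O (c.n + 1) →+* Germ (𝓝 x) ℂ :=
  (RingHom.comp
    { toFun := fun g => g.compTendsto c.κ c.tendsto_κ
      map_one' := rfl
      map_mul' := fun a b => Germ.inductionOn₂ a b fun _ _ => rfl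
      map_zero' := rfl
      map_add' := fun a b => Germ.inductionOn₂ a b fun _ _ => rfl }
    (hol (c.n + 1)).subtype : O (c.n + 1) →+* Germ (𝓝 x) ℂ)

theorem pullGerm_mk (f : (Fin (c.n + 1) → ℂ) → ℂ) (hf : Diff f) :
    c.pullGerm (Groth.L02.An.mk f hf) = Germ.ofFun fun y => f (c.κ y) := rfl

theorem mem_range_of_pullGerm (f : (Fin (c.n + 1) → ℂ) → ℂ) (hf : Diff f) :
    Germ.ofFun (fun y => f (c.κ y)) ∈ (toGerm x).range := by
  obtain ⟨S, hS, hSo, h0⟩ := _root_.eventually_nhds_iff.mp hf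
  obtain ⟨W, hW, hWo, hxW⟩ := _root_.eventually_nhds_iff.mp
    (c.eventually_mem.and (c.tendsto_κ.eventually (hSo.mem_nhds h0)))
  let V : Opens (top X) := ⟨W, hWo⟩
  have hfS : DifferentiableOn ℂ f S := fun z hz => (hS z hz).differentiableWithinAt
  have hg : (fun y : V => f (c.κ y.1)) ∈ chartAlg V := Algebra.subset_adjoin
    ⟨c.U, fun y : V => (hW y.1 y.2).1, c.n + 1, c.s, S, f, hSo, hfS, fun y : V => by
      rw [← c.κ_of_mem (hW y.1 y.2).1]
      exact ⟨(hW y.1 y.2).2, rfl⟩⟩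
  let g : holSub V := ⟨fun y : V => f (c.κ y.1), holPred_of_chartAlg hg⟩
  refine ⟨(holPresheaf X).germ V x hxW g, ?_⟩
  rw [toGerm_germ]
  exact Germ.coe_eq.mpr (Filter.eventually_of_mem (hWo.mem_nhds hxW) fun y hy => extend_of_mem V g hy)

theorem exists_pullGerm_eq_of_chartAlg {V : Opens (top X)} (hxV : x ∈ V) {g : V → ℂ}
    (hg : g ∈ chartAlg V) :
    ∃ (f : (Fin (c.n + 1) → ℂ) → ℂ), Diff f ∧
      ∀ᶠ y in 𝓝 x, ∀ hy : y ∈ V, g ⟨y, hy⟩ = f (c.κ y) := by
  induction hg using Algebra.adjoin_induction with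
  | algebraMap a =>
    exact ⟨fun _ => a, .of_forall fun _ => differentiableAt_const a, .of_forall fun y hy => rfl⟩
  | add a b _ _ ha hb =>
    obtain ⟨f, hf, hfe⟩ := ha
    obtain ⟨f', hf', hfe'⟩ := hb
    exact ⟨f + f', (hf.and hf').mono fun _ h => h.1.add h.2,
      (hfe.and hfe').mono fun y h hy => congrArg₂ (· + ·) (h.1 hy) (h.2 hy)⟩
  | mul a b _ _ ha hb =>
    obtain ⟨f, hf, hfe⟩ := ha
    obtain ⟨f', hf', hfe'⟩ := hb
    exact ⟨f * f', (hf.and hf').mono fun _ h => h.1.mul h.2,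
      (hfe.and hfe').mono fun y h hy => congrArg₂ (· * ·) (h.1 hy) (h.2 hy)⟩
  | mem g hg =>
    obtain ⟨W, hW, m, s, S, G, hS, hG, h⟩ := hg
    choose a b k hb0 key using fun i => exists_ev_eq_div c.hU (s i) x c.hx (hW ⟨x, hxV⟩)
    choose p hp using fun i => c.surj (a i)
    choose q hq using fun i => c.surj (b i)
    have hq0 : ∀ i, MvPolynomial.eval 0 (q i) ≠ 0 := fun i => by
      rw [← c.κ_self, ← c.ev_eq_eval c.hx, hq]; exact hb0 i
    let F : (Fin (c.n + 1) → ℂ) → Fin m → ℂ := fun z i => MvPolynomial.eval z (p i) * (MvPolynomial.eval z (q i) ^ k i)⁻¹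
    have hq' : ∀ᶠ z in 𝓝 (0 : Fin (c.n + 1) → ℂ), ∀ i, MvPolynomial.eval z (q i) ≠ 0 :=
      eventually_all.mpr fun i => (MvPolynomial.continuous_eval (q i)).continuousAt.eventually_ne (hq0 i)
    have hF : ∀ z, (∀ i, MvPolynomial.eval z (q i) ≠ 0) → DifferentiableAt ℂ F z := fun z hz =>
      differentiableAt_pi.mpr fun i => (differentiable_eval (p i) z).fun_mul
        (((differentiable_eval (q i) z).fun_pow (k i)).fun_inv (pow_ne_zero (k i) (hz i)))
    have heq : ∀ᶠ y in 𝓝 x, ∀ hy : y ∈ V, (fun i => Pts.ev y W (hW ⟨y, hy⟩) (s i)) = F (c.κ y) := by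
      filter_upwards [c.eventually_mem, c.tendsto_κ.eventually hq'] with y hyU hyq hy
      funext i
      obtain ⟨hyW, he⟩ := key i y hyU (by rw [← hq i, c.ev_eq_eval hyU]; exact hyq i)
      refine he.trans ?_
      rw [← hp i, ← hq i, c.ev_eq_eval hyU, c.ev_eq_eval hyU, div_eq_mul_inv]
    have hFS : F 0 ∈ S := by
      have := (h ⟨x, hxV⟩).1
      rwa [heq.self_of_nhds hxV, c.κ_self] at this
    have hev : ∀ᶠ z in 𝓝 (0 : Fin (c.n + 1) → ℂ), F z ∈ S :=
      (hF 0 hq0).continuousAt.eventually_mem (hS.mem_nhds hFS)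
    refine ⟨fun z => G (F z), (hev.and hq').mono fun z hz =>
      (hG.differentiableAt (hS.mem_nhds hz.1)).comp z (hF z hz.2), heq.mono fun y hy' hy => ?_⟩
    exact ((h ⟨y, hy⟩).2).trans (congrArg G (hy' hy))

theorem range_pullGerm : c.pullGerm.range = (toGerm x).range := by
  refine le_antisymm ?_ ?_
  · rintro _ ⟨g, rfl⟩
    obtain ⟨f, hf, rfl⟩ := exists_mk g
    exact c.mem_range_of_pullGerm f hf
  · rintro _ ⟨a, rfl⟩
    obtain ⟨V, hx, g, rfl⟩ := TopCat.Presheaf.exists_germ_eq (holPresheaf X) a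
    rw [toGerm_germ]
    obtain ⟨V', hxV', i, hV'⟩ := g.2 ⟨x, hx⟩
    obtain ⟨f, hf, hfe⟩ := c.exists_pullGerm_eq_of_chartAlg hxV' hV'
    refine ⟨Groth.L02.An.mk f hf, ?_⟩
    rw [pullGerm_mk]
    refine Germ.coe_eq.mpr ?_
    filter_upwards [hfe, V'.2.mem_nhds hxV'] with y hy hyV'
    exact (hy hyV').symm.trans (extend_of_mem V g (i.le hyV')).symm

/-- The map from ambient germs to the analytic local ring. -/
def toStalk : O (c.n + 1) →+* (holPresheaf X).stalk x :=
  (((RingEquiv.ofLeftInverse (toGerm_injective x).hasLeftInverse.choose_spec).symm :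
      (toGerm x).range →+* (holPresheaf X).stalk x)).comp
    (RingHom.codRestrict c.pullGerm (toGerm x).range fun g => c.range_pullGerm.le ⟨g, rfl⟩)

theorem toGerm_toStalk (g : O (c.n + 1)) : toGerm x (c.toStalk g) = c.pullGerm g :=
  congrArg Subtype.val ((RingEquiv.ofLeftInverse (toGerm_injective x).hasLeftInverse.choose_spec).apply_symm_apply _)

theorem toStalk_surjective : Function.Surjective c.toStalk := fun a => by
  obtain ⟨g, hg⟩ := c.range_pullGerm.ge ⟨a, rfl⟩
  exact ⟨g, toGerm_injective x ((c.toGerm_toStalk g).trans hg)⟩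

theorem toStalk_ofPoly (p : MvPolynomial (Fin (c.n + 1)) ℂ) :
    c.toStalk (ofPoly p) = (PresheafedSpace.Hom.stalkMap (anToScheme X) x)
      (X.presheaf.germ c.U (Pts.pt x) c.hx (MvPolynomial.eval₂Hom (str X c.U) c.s p)) := by
  refine toGerm_injective x ?_
  rw [toGerm_toStalk]
  have h := congrArg (fun φ => φ (MvPolynomial.eval₂Hom (str X c.U) c.s p))
    (PresheafedSpace.stalkMap_germ (anToScheme X) c.U (x : top X) c.hx)
  refine Eq.trans ?_ (congrArg (toGerm x) h).symm
  refine Eq.trans ?_ (toGerm_germ (x : top X) _ c.hx _).symm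
  refine Germ.coe_eq.mpr ?_
  filter_upwards [c.eventually_mem] with y hy
  refine ((extend_of_mem _ _ (show y ∈ (Opens.map (anToScheme X).base).obj c.U from hy)).trans ?_).symm
  exact c.ev_eq_eval hy p

end Chart

end Groth.L02.An
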