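import Groth.Agent.L02.An.Germ.Stalk
import Groth.Agent.L02.An.Germ.FlatBij
import Mathlib.AlgebraicGeometry.Noetherian

/-!
The analytic local ring at a complex point: its kernel presentation and its comparison with the algebraic one.
-/

noncomputable section

open AlgebraicGeometry CategoryTheory TopologicalSpace Opposite Filter Topology IsLocalRing

namespace Groth.L02.An

open _root_.An

set_option backward.isDefEq.respectTransparency.types false

theorem exists_sub_mem_of_mem_map {n k : ℕ} (J : Ideal (MvPolynomial (Fin n) ℂ)) {w : O n}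
    (hw : w ∈ J.map ofPoly) : ∃ j ∈ J, w - ofPoly j ∈ maximalIdeal (O n) ^ k := by
  induction hw using Submodule.span_induction with
  | mem w hw =>
    obtain ⟨j, hj, rfl⟩ := hw
    exact ⟨j, hj, by rw [sub_self]; exact zero_mem _⟩
  | zero => exact ⟨0, zero_mem _, by rw [map_zero, sub_zero]; exact zero_mem _⟩
  | add a b _ _ ha hb =>
    obtain ⟨i, hi, ha⟩ := ha
    obtain ⟨j, hj, hb⟩ := hb
    exact ⟨i + j, add_mem hi hj, by rw [map_add, add_sub_add_comm]; exact add_mem ha hb⟩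
  | smul g a _ ha =>
    obtain ⟨i, hi, ha⟩ := ha
    obtain ⟨p, hp⟩ := exists_poly_sub_mem k g
    refine ⟨p * i, Ideal.mul_mem_left _ _ hi, ?_⟩
    have : g • a - ofPoly (p * i) = g * (a - ofPoly i) + ofPoly i * (g - ofPoly p) := by
      rw [smul_eq_mul, map_mul]; ring
    rw [this]
    exact add_mem (Ideal.mul_mem_left _ _ ha) (Ideal.mul_mem_left _ _ hp)

theorem mem_sup_of_ofPoly_mem {n k : ℕ} {J : Ideal (MvPolynomial (Fin n) ℂ)} {p : MvPolynomial (Fin n) ℂ}
    (h : ofPoly p ∈ maximalIdeal (O n) ^ k ⊔ J.map ofPoly) :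
    p ∈ MvPolynomial.idealOfVars (Fin n) ℂ ^ k ⊔ J := by
  obtain ⟨u, hu, v, hv, huv⟩ := Submodule.mem_sup.mp h
  obtain ⟨j, hj, hvj⟩ := exists_sub_mem_of_mem_map (k := k) J hv
  rw [← sub_add_cancel p j]
  refine add_mem (Ideal.mem_sup_left (mem_pow_of_ofPoly_mem ?_)) (Ideal.mem_sup_right hj)
  rw [map_sub, ← huv, add_sub_assoc]
  exact add_mem hu hvj

variable {X : Scheme.{0}} [X.Over SC]

/-- The comparison of the algebraic local ring with the analytic one. -/
def φ (x : Pts X) : X.presheaf.stalk (Pts.pt x) →+* (holPresheaf X).stalk (x : top X) :=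
  (PresheafedSpace.Hom.stalkMap (anToScheme X) x).hom

namespace Chart

variable {x : Pts X} (c : Chart x)

/-- Evaluation of polynomials at the generators. -/
abbrev ev : MvPolynomial (Fin (c.n + 1)) ℂ →+* Γ(X, c.U) := MvPolynomial.eval₂Hom (str X c.U) c.s

/-- The germ in the algebraic local ring. -/
def algGerm : Γ(X, c.U) →+* X.presheaf.stalk (Pts.pt x) := (X.presheaf.germ c.U (Pts.pt x) c.hx).hom

theorem toStalk_comp : c.toStalk.comp ofPoly =
    (φ x).comp (c.algGerm.comp c.ev) :=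
  RingHom.ext fun p => c.toStalk_ofPoly p

theorem eval_κ_self (p : MvPolynomial (Fin (c.n + 1)) ℂ) :
    val x c.U c.hx (c.ev p) = MvPolynomial.eval 0 p := by
  show x.ev c.U c.hx _ = _
  rw [c.ev_eq_eval c.hx, c.κ_self]

theorem ker_val : RingHom.ker (val x c.U c.hx) =
    (MvPolynomial.idealOfVars (Fin (c.n + 1)) ℂ).map c.ev := by
  refine le_antisymm (fun a ha => ?_) (Ideal.map_le_iff_le_comap.mpr (Ideal.span_le.mpr ?_))
  · obtain ⟨p, rfl⟩ := c.surj a
    rw [RingHom.mem_ker, c.eval_κ_self] at ha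
    refine Ideal.mem_map_of_mem c.ev ?_
    have h := ker_eval_le (0 : Fin (c.n + 1) → ℂ) ha
    rw [pointIdeal_eq_span] at h
    simpa [MvPolynomial.idealOfVars] using h
  · rintro _ ⟨i, rfl⟩
    show c.ev (MvPolynomial.X i) ∈ RingHom.ker (val x c.U c.hx)
    rw [RingHom.mem_ker, c.eval_κ_self]
    exact MvPolynomial.eval_X i

theorem ker_toStalk [LocallyOfFiniteType (X ↘ SC)] [IsReduced X] :
    RingHom.ker c.toStalk = (RingHom.ker c.ev).map ofPoly := by
  refine le_antisymm (fun g hg => ?_) (Ideal.map_le_iff_le_comap.mpr fun p hp => ?_)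
  swap
  · show ofPoly p ∈ RingHom.ker c.toStalk
    rw [RingHom.mem_ker, c.toStalk_ofPoly]
    rw [show MvPolynomial.eval₂Hom (str X c.U) c.s p = 0 from hp, map_zero]
    exact map_zero (φ x)
  set J := (RingHom.ker c.ev).map (ofPoly (n := c.n + 1))
  suffices h : ∀ k, g ∈ maximalIdeal (O (c.n + 1)) ^ k ⊔ J by
    by_cases hJ : J = ⊤
    · rw [hJ]; trivial
    have : Nontrivial (O (c.n + 1) ⧸ J) := Ideal.Quotient.nontrivial_iff.mpr hJ
    have : IsLocalRing (O (c.n + 1) ⧸ J) := IsLocalRing.of_surjective' _ Ideal.Quotient.mk_surjective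
    have hbot := Ideal.iInf_pow_smul_eq_bot_of_isLocalRing (M := O (c.n + 1) ⧸ J)
      (maximalIdeal (O (c.n + 1))) (maximalIdeal.isMaximal _).ne_top
    have h0 : Ideal.Quotient.mk J g ∈
        ⨅ k : ℕ, (maximalIdeal (O (c.n + 1)) ^ k • ⊤ : Submodule (O (c.n + 1)) (O (c.n + 1) ⧸ J)) := by
      refine (Submodule.mem_iInf _).mpr fun k => ?_
      obtain ⟨u, hu, v, hv, rfl⟩ := Submodule.mem_sup.mp (h k)
      rw [map_add, Ideal.Quotient.eq_zero_iff_mem.mpr hv, add_zero,
        show Ideal.Quotient.mk J u = u • (1 : O (c.n + 1) ⧸ J) by rw [Algebra.smul_def, mul_one]; rfl]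
      exact Submodule.smul_mem_smul hu Submodule.mem_top
    rw [hbot, Submodule.mem_bot] at h0
    exact Ideal.Quotient.eq_zero_iff_mem.mp h0
  intro k
  let _ : Algebra ℂ Γ(X, c.U) := (str X c.U).toAlgebra
  have : Algebra.FiniteType ℂ Γ(X, c.U) := finiteType_str c.hU
  let χ : Γ(X, c.U) →ₐ[ℂ] ℂ := { val x c.U c.hx with commutes' := fun a => val_str x c.U c.hx a }
  obtain ⟨K, hK⟩ := exists_mem_pow_of_small Γ(X, c.U) c.s χ k
  obtain ⟨f, hf, rfl⟩ := exists_mk g
  have hg0 : c.pullGerm (Groth.L02.An.mk f hf) = 0 := by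
    rw [← c.toGerm_toStalk, RingHom.mem_ker.mp hg]
    exact map_zero (toGerm (x : top X))
  rw [pullGerm_mk] at hg0
  have hfy : ∀ᶠ y in 𝓝 x, f (c.κ y) = 0 := Germ.coe_eq.mp hg0
  obtain ⟨p, hp⟩ := exists_poly_sub_mem (K + k) (Groth.L02.An.mk f hf)
  obtain ⟨C, hC⟩ := eventually_norm_le_of_mem_pow (Ideal.pow_le_pow_right (Nat.le_add_right K k) hp)
    (fun z => f z - MvPolynomial.eval z p) rfl
  have hev : ∀ᶠ w in 𝓝 (⟨x, c.hx⟩ : {w : Pts X // w.pt ∈ c.U}),
      ‖MvPolynomial.eval (coords c.U c.s w) p‖ ≤ C * ‖coords c.U c.s w‖ ^ K := by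
    filter_upwards [(continuous_subtype_val.tendsto _).eventually (hfy.and (c.tendsto_κ.eventually hC))]
      with w hw
    have e : coords c.U c.s w = c.κ w.1 := (c.κ_of_mem w.2).symm
    have := hw.2
    rw [hw.1, zero_sub, norm_neg] at this
    rwa [e]
  rw [(isClosedEmbedding_coords c.hU c.s c.surj).isInducing.nhds_eq_comap, eventually_comap,
    show coords c.U c.s ⟨x, c.hx⟩ = 0 from funext c.zero, Metric.eventually_nhds_iff_ball] at hev
  obtain ⟨ρ, hρ, hev⟩ := hev
  have hsmall : Small c.s χ (c.ev p) K := by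
    refine ⟨ρ, C, hρ, fun ψ hψ => ?_⟩
    have hc : (ψ : Γ(X, c.U) →+* ℂ).comp (str X c.U) = RingHom.id ℂ := RingHom.ext ψ.commutes
    have hz : (fun i => ψ (c.s i) - χ (c.s i)) = fun i => ψ (c.s i) :=
      funext fun i => by rw [show χ (c.s i) = 0 from c.zero i, sub_zero]
    rw [hz] at hψ ⊢
    have hw : coords c.U c.s ⟨mkPt c.hU _ hc, pt_mkPt_mem c.hU _ hc⟩ = fun i => ψ (c.s i) :=
      funext fun i => congr($(val_mkPt c.hU _ hc) (c.s i))
    have := hev _ (by rwa [mem_ball_zero_iff]) _ hw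
    rwa [hw, show MvPolynomial.eval (fun i => ψ (c.s i)) p = ψ (c.ev p) from ?_] at this
    rw [← hw]
    have h1 := congr($(val_mkPt c.hU _ hc) (c.ev p))
    rw [val_apply, val_eval₂Hom] at h1
    exact h1
  have hmem := hK _ hsmall
  have hχ : RingHom.ker χ = (MvPolynomial.idealOfVars (Fin (c.n + 1)) ℂ).map c.ev := c.ker_val
  rw [hχ, ← Ideal.map_pow] at hmem
  obtain ⟨q, hq, hqe⟩ := (Ideal.mem_map_iff_of_surjective _ c.surj).mp hmem
  rw [← sub_add_cancel (Groth.L02.An.mk f hf) (ofPoly p), ← sub_add_cancel p q, map_add, map_sub]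
  refine add_mem (Ideal.mem_sup_left (Ideal.pow_le_pow_right (Nat.le_add_left k K) ?_)) (add_mem ?_ ?_)
  · rwa [sub_add_cancel]
  · rw [← map_sub]
    exact Ideal.mem_sup_right (Ideal.mem_map_of_mem ofPoly (by rw [RingHom.mem_ker, map_sub, hqe, sub_self]))
  · refine Ideal.mem_sup_left ?_
    rw [← map_idealOfVars, ← Ideal.map_pow]
    exact Ideal.mem_map_of_mem _ hq

theorem exists_algGerm (a : X.presheaf.stalk (Pts.pt x)) : ∃ p q : MvPolynomial (Fin (c.n + 1)) ℂ,
    MvPolynomial.eval 0 q ≠ 0 ∧ IsUnit (c.algGerm (c.ev q)) ∧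
      a * c.algGerm (c.ev q) = c.algGerm (c.ev p) := by
  let _ := TopCat.Presheaf.algebra_section_stalk X.presheaf (⟨Pts.pt x, c.hx⟩ : c.U)
  have hloc := c.hU.isLocalization_stalk ⟨Pts.pt x, c.hx⟩
  have hprime : (c.hU.primeIdealOf ⟨Pts.pt x, c.hx⟩).asIdeal = RingHom.ker (val x c.U c.hx) := by
    have h : c.hU.primeIdealOf ⟨Pts.pt x, c.hx⟩ =
        (⟨RingHom.ker (val x c.U c.hx), RingHom.ker_isPrime _⟩ : PrimeSpectrum Γ(X, c.U)) :=
      c.hU.fromSpec.isOpenEmbedding.injective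
        ((c.hU.fromSpec_primeIdealOf _).trans (pt_eq_fromSpec x c.hU c.hx))
    rw [h]
  obtain ⟨⟨b, q'⟩, hb⟩ := IsLocalization.surj (c.hU.primeIdealOf ⟨Pts.pt x, c.hx⟩).asIdeal.primeCompl a
  obtain ⟨p, rfl⟩ := c.surj b
  obtain ⟨q, hq⟩ := c.surj q'.1
  refine ⟨p, q, ?_, ?_, ?_⟩
  · rw [← c.eval_κ_self, show c.ev q = q'.1 from hq]
    exact fun h0 => q'.2 (hprime.ge h0)
  · rw [show c.ev q = q'.1 from hq]
    exact IsLocalization.map_units (X.presheaf.stalk (Pts.pt x)) q'
  · rw [show c.ev q = q'.1 from hq]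
    exact hb

theorem maximalIdeal_stalk : maximalIdeal (X.presheaf.stalk (Pts.pt x)) =
    (MvPolynomial.idealOfVars (Fin (c.n + 1)) ℂ).map (c.algGerm.comp c.ev) := by
  rw [← Ideal.map_map, ← c.ker_val]
  refine le_antisymm (fun a ha => ?_) (Ideal.map_le_iff_le_comap.mpr fun b hb => ?_)
  · obtain ⟨p, q, hq0, hqu, hpq⟩ := c.exists_algGerm a
    refine (Ideal.mul_unit_mem_iff_mem _ hqu).mp ?_
    rw [hpq]
    refine Ideal.mem_map_of_mem _ ?_
    by_contra h
    have hp : Pts.pt x ∈ X.basicOpen (c.ev p) := (mem_basicOpen_iff x c.hx _).mpr h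
    have hu := (Scheme.mem_basicOpen X _ (Pts.pt x) c.hx).mp hp
    rw [show X.presheaf.germ c.U (Pts.pt x) c.hx (c.ev p) = a * c.algGerm (c.ev q) from hpq.symm] at hu
    exact (maximalIdeal.isMaximal _).ne_top
      (Ideal.eq_top_of_isUnit_mem _ (Ideal.mul_mem_right _ _ ha) hu)
  · rw [Ideal.mem_comap, IsLocalRing.mem_maximalIdeal, mem_nonunits_iff]
    intro hu
    exact (mem_basicOpen_iff x c.hx b).mp ((Scheme.mem_basicOpen X _ (Pts.pt x) c.hx).mpr hu)
      (RingHom.mem_ker.mp hb)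

theorem map_maximalIdeal :
    (maximalIdeal (X.presheaf.stalk (Pts.pt x))).map (φ x) =
      (maximalIdeal (O (c.n + 1))).map c.toStalk := by
  rw [c.maximalIdeal_stalk, Ideal.map_map, ← c.toStalk_comp, ← Ideal.map_map, map_idealOfVars]

theorem map_maximalIdeal_ne_top :
    (maximalIdeal (O (c.n + 1))).map c.toStalk ≠ ⊤ := by
  rw [Ne, Ideal.eq_top_iff_one, Ideal.mem_map_iff_of_surjective _ c.toStalk_surjective]
  rintro ⟨g, hg, hg1⟩
  obtain ⟨f, hf, rfl⟩ := exists_mk g
  rw [mem_maximalIdeal_iff, ev0_mk] at hg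
  have h1 := congrArg (toGerm (x : top X)) hg1
  rw [c.toGerm_toStalk, pullGerm_mk, map_one] at h1
  have h2 : f (c.κ x) = 1 := (Germ.coe_eq.mp h1).self_of_nhds
  rw [c.κ_self, hg] at h2
  exact zero_ne_one h2

theorem isMaximal_map : ((maximalIdeal (O (c.n + 1))).map c.toStalk).IsMaximal :=
  (Ideal.map_eq_top_or_isMaximal_of_surjective _ c.toStalk_surjective (maximalIdeal.isMaximal _)).resolve_left
    c.map_maximalIdeal_ne_top

theorem eq_map_of_isMaximal {I : Ideal ((holPresheaf X).stalk (x : top X))} (hI : I.IsMaximal) :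
    I = (maximalIdeal (O (c.n + 1))).map c.toStalk := by
  have := Ideal.comap_isMaximal_of_surjective c.toStalk c.toStalk_surjective (K := I)
  rw [← eq_maximalIdeal this, Ideal.map_comap_of_surjective _ c.toStalk_surjective]

theorem exists_sub_mem (n : ℕ) (b : (holPresheaf X).stalk (x : top X)) :
    ∃ a : X.presheaf.stalk (Pts.pt x), (φ x) a - b ∈
      ((maximalIdeal (O (c.n + 1))).map c.toStalk) ^ n := by
  obtain ⟨g, rfl⟩ := c.toStalk_surjective b
  obtain ⟨p, hp⟩ := exists_poly_sub_mem n g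
  refine ⟨c.algGerm (c.ev p), ?_⟩
  rw [show (φ x) (c.algGerm (c.ev p)) = c.toStalk (ofPoly p)
    from congr($(c.toStalk_comp) p).symm, ← Ideal.map_pow, ← map_sub]
  refine Ideal.mem_map_of_mem _ ?_
  rw [← neg_sub, neg_mem_iff]
  exact hp

theorem mem_pow_of_map_mem [LocallyOfFiniteType (X ↘ SC)] [IsReduced X] (n : ℕ)
    (a : X.presheaf.stalk (Pts.pt x))
    (h : (φ x) a ∈
      ((maximalIdeal (O (c.n + 1))).map c.toStalk) ^ n) :
    a ∈ maximalIdeal (X.presheaf.stalk (Pts.pt x)) ^ n := by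
  obtain ⟨p, q, -, hqu, hpq⟩ := c.exists_algGerm a
  have h2 : c.toStalk (ofPoly p) ∈ (maximalIdeal (O (c.n + 1)) ^ n).map c.toStalk := by
    rw [show c.toStalk (ofPoly p) = _ from congr($(c.toStalk_comp) p), Ideal.map_pow, RingHom.comp_apply,
      RingHom.comp_apply, ← hpq, map_mul]
    exact Ideal.mul_mem_right _ _ h
  rw [← Ideal.mem_comap, Ideal.comap_map_of_surjective _ c.toStalk_surjective] at h2
  have h3 : ofPoly p ∈ maximalIdeal (O (c.n + 1)) ^ n ⊔ (RingHom.ker c.ev).map ofPoly := by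
    rw [← c.ker_toStalk]; exact h2
  obtain ⟨u, hu, v, hv, huv⟩ := Submodule.mem_sup.mp (mem_sup_of_ofPoly_mem h3)
  refine (Ideal.mul_unit_mem_iff_mem _ hqu).mp ?_
  rw [hpq, ← huv, map_add, RingHom.mem_ker.mp hv, add_zero, c.maximalIdeal_stalk, ← Ideal.map_pow]
  exact Ideal.mem_map_of_mem (c.algGerm.comp c.ev) hu

end Chart

instance isLocalRing_anStalk [LocallyOfFiniteType (X ↘ SC)] (x : Pts X) :
    IsLocalRing ((holPresheaf X).stalk (x : top X)) := by
  obtain ⟨c⟩ := exists_chart x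
  have : Nontrivial ((holPresheaf X).stalk (x : top X)) :=
    nontrivial_of_ne 0 1 fun h => c.map_maximalIdeal_ne_top ((Ideal.eq_top_iff_one _).mpr
      (by rw [← h]; exact zero_mem _))
  exact IsLocalRing.of_surjective' c.toStalk c.toStalk_surjective

instance isNoetherianRing_anStalk [LocallyOfFiniteType (X ↘ SC)] (x : Pts X) :
    IsNoetherianRing ((holPresheaf X).stalk (x : top X)) := by
  obtain ⟨c⟩ := exists_chart x
  exact isNoetherianRing_of_surjective (O (c.n + 1)) _ c.toStalk c.toStalk_surjective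

theorem map_maximalIdeal_anStalk [LocallyOfFiniteType (X ↘ SC)] (x : Pts X) :
    (maximalIdeal (X.presheaf.stalk (Pts.pt x))).map (φ x) =
      maximalIdeal ((holPresheaf X).stalk (x : top X)) := by
  obtain ⟨c⟩ := exists_chart x
  rw [c.map_maximalIdeal]
  exact eq_maximalIdeal c.isMaximal_map

theorem flat_stalkMap [LocallyOfFiniteType (X ↘ SC)] [IsReduced X] (x : Pts X) :
    (φ x).Flat := by
  obtain ⟨c⟩ := exists_chart x
  have := Groth.L02.An.isLocallyNoetherian (X := X)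
  let _ := (φ x).toAlgebra
  have hm := map_maximalIdeal_anStalk x
  refine flat_of_bijective_pow (A := X.presheaf.stalk (Pts.pt x)) (B := (holPresheaf X).stalk (x : top X))
    hm.le (fun k b => ?_) fun k a h => ?_
  · obtain ⟨a, ha⟩ := c.exists_sub_mem k b
    refine ⟨a, ?_⟩
    rw [← hm, c.map_maximalIdeal, ← neg_sub, neg_mem_iff]
    exact ha
  · rw [← hm, c.map_maximalIdeal] at h
    exact c.mem_pow_of_map_mem k a h

end Groth.L02.An
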