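import Groth.Agent.L02.An.Monodromy
import Groth.Agent.L02.An.Germ.Basic
import Mathlib.RingTheory.Filtration
import Mathlib.RingTheory.Finiteness.Ideal
import Mathlib.LinearAlgebra.Lagrange

/-!
A function on an affine variety vanishing to high order at a point, as a function on complex points,
lies in a high power of the maximal ideal.
-/

noncomputable section

open Filter Topology Polynomial

namespace Groth.L02.An

/-- The function `a` is small of order `K` at `χ` with respect to the coordinates `s`. -/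
def Small {A : Type} [CommRing A] [Algebra ℂ A] {ι : Type} [Fintype ι] (s : ι → A) (χ : A →ₐ[ℂ] ℂ)
    (a : A) (K : ℕ) : Prop :=
  ∃ (ρ C : ℝ), 0 < ρ ∧ ∀ ψ : A →ₐ[ℂ] ℂ, ‖fun i => ψ (s i) - χ (s i)‖ < ρ →
    ‖ψ a‖ ≤ C * ‖fun i => ψ (s i) - χ (s i)‖ ^ K

variable {d : ℕ}

theorem dense_eval_ne_zero {h : MvPolynomial (Fin d) ℂ} (hh : h ≠ 0) :
    Dense {x : Fin d → ℂ | MvPolynomial.eval x h ≠ 0} := by
  intro x
  obtain ⟨v, hv⟩ : ∃ v, MvPolynomial.eval (x + v) h ≠ 0 := by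
    by_contra hc
    push Not at hc
    exact hh (MvPolynomial.funext fun y => by simpa using hc (y - x))
  have hl : lineRestrict h x v ≠ 0 := lineRestrict_ne_zero (s := 1) (by simpa using hv)
  have hev : ∀ᶠ s : ℂ in 𝓝[≠] 0, MvPolynomial.eval (x + s • v) h ≠ 0 := by
    have hfin : ({s : ℂ | (lineRestrict h x v).eval s = 0} \ {0}).Finite :=
      (finite_setOfPred_isRoot hl).subset fun s hs => hs.1
    filter_upwards [self_mem_nhdsWithin, nhdsWithin_le_nhds (hfin.isClosed.isOpen_compl.mem_nhds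
      fun hc => hc.2 rfl)] with s hs hs'
    rw [← eval_lineRestrict]
    exact fun h0 => hs' ⟨h0, hs⟩
  have hc : Tendsto (fun s : ℂ => x + s • v) (𝓝[≠] 0) (𝓝 x) :=
    ((show Continuous fun s : ℂ => x + s • v by fun_prop).tendsto' 0 x (by simp)).mono_left nhdsWithin_le_nhds
  exact mem_closure_of_tendsto hc hev

/-- Translation of polynomials. -/
def shift (t₀ : Fin d → ℂ) : MvPolynomial (Fin d) ℂ →ₐ[ℂ] MvPolynomial (Fin d) ℂ :=
  MvPolynomial.aeval fun i => MvPolynomial.X i - MvPolynomial.C (t₀ i)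

theorem eval_shift (t₀ t : Fin d → ℂ) (p : MvPolynomial (Fin d) ℂ) :
    MvPolynomial.eval t (shift t₀ p) = MvPolynomial.eval (t - t₀) p := by
  show (MvPolynomial.aeval t).comp (MvPolynomial.aeval _) p = _
  rw [MvPolynomial.comp_aeval]
  refine (congrArg (fun w => MvPolynomial.aeval w p) (funext fun i => ?_)).trans rfl
  simp

theorem shift_shift_neg (t₀ : Fin d → ℂ) (p : MvPolynomial (Fin d) ℂ) : shift t₀ (shift (-t₀) p) = p :=
  MvPolynomial.funext fun t => by rw [eval_shift, eval_shift, sub_neg_eq_add, sub_add_cancel]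

/-- The powers of the maximal ideal of a point of affine space. -/
def pointIdeal (t₀ : Fin d → ℂ) : Ideal (MvPolynomial (Fin d) ℂ) :=
  (MvPolynomial.idealOfVars (Fin d) ℂ).map (shift t₀).toRingHom

theorem mem_pointIdeal_pow_of_growth (t₀ : Fin d → ℂ) (p : MvPolynomial (Fin d) ℂ) (k : ℕ) (C : ℝ)
    (h : ∀ᶠ t in 𝓝 t₀, ‖MvPolynomial.eval t p‖ ≤ C * ‖t - t₀‖ ^ k) : p ∈ pointIdeal t₀ ^ k := by
  have h1 : shift (-t₀) p ∈ MvPolynomial.idealOfVars (Fin d) ℂ ^ k := by
    refine mem_pow_of_growth _ k C ?_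
    have hc : Tendsto (fun z : Fin d → ℂ => z + t₀) (𝓝 0) (𝓝 t₀) :=
      (continuous_add_right t₀).tendsto' 0 t₀ (zero_add _)
    refine (hc.eventually h).mono fun z hz => ?_
    rw [eval_shift, sub_neg_eq_add]
    simpa using hz
  rw [pointIdeal, ← Ideal.map_pow]
  have := Ideal.mem_map_of_mem (shift t₀).toRingHom h1
  rwa [show (shift t₀).toRingHom (shift (-t₀) p) = p from shift_shift_neg t₀ p] at this

theorem pointIdeal_eq_span (t₀ : Fin d → ℂ) :
    pointIdeal t₀ = Ideal.span (Set.range fun i => MvPolynomial.X i - MvPolynomial.C (t₀ i)) := by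
  show (Ideal.span (Set.range (MvPolynomial.X : Fin d → MvPolynomial (Fin d) ℂ))).map (shift t₀).toRingHom = _
  rw [Ideal.map_span, ← Set.range_comp]
  congr 2
  funext i
  exact MvPolynomial.aeval_X _ i

theorem ker_eval_le (t₀ : Fin d → ℂ) : RingHom.ker (MvPolynomial.eval t₀) ≤ pointIdeal t₀ := by
  intro p hp
  rw [pointIdeal_eq_span]
  suffices h : ∀ q : MvPolynomial (Fin d) ℂ, q - MvPolynomial.C (MvPolynomial.eval t₀ q) ∈
      Ideal.span (Set.range fun i => MvPolynomial.X i - MvPolynomial.C (t₀ i)) by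
    simpa [RingHom.mem_ker.mp hp] using h p
  intro q
  induction q using MvPolynomial.induction_on with
  | C a => simp
  | add a b ha hb =>
    rw [map_add, map_add, add_sub_add_comm]
    exact add_mem ha hb
  | mul_X a i ha =>
    rw [map_mul, map_mul, MvPolynomial.eval_X,
      show a * MvPolynomial.X i - MvPolynomial.C (MvPolynomial.eval t₀ a) * MvPolynomial.C (t₀ i) =
        (a - MvPolynomial.C (MvPolynomial.eval t₀ a)) * MvPolynomial.C (t₀ i) +
          a * (MvPolynomial.X i - MvPolynomial.C (t₀ i)) by ring]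
    exact add_mem (Ideal.mul_mem_right _ _ ha) (Ideal.mul_mem_left _ _ (Ideal.subset_span ⟨i, rfl⟩))

variable {A : Type} [CommRing A] [Algebra ℂ A] [Algebra (MvPolynomial (Fin d) ℂ) A]
  [IsScalarTower ℂ (MvPolynomial (Fin d) ℂ) A] [Module.Finite (MvPolynomial (Fin d) ℂ) A]

theorem exists_bound (t₀ : Fin d → ℂ) (b : A) :
    ∃ B : ℝ, 0 ≤ B ∧ ∀ ψ : A →ₐ[ℂ] ℂ, ‖(base ψ : Fin d → ℂ) - t₀‖ ≤ 1 → ‖ψ b‖ ≤ B := by
  have hm := minpoly.monic (Algebra.IsIntegral.isIntegral (R := MvPolynomial (Fin d) ℂ) b)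
  obtain ⟨c, hc⟩ := (isCompact_closedBall t₀ 1).exists_bound_of_continuousOn
    (f := fun x => 1 + ∑ i ∈ Finset.range (minpoly (MvPolynomial (Fin d) ℂ) b).natDegree,
      ‖MvPolynomial.eval x ((minpoly (MvPolynomial (Fin d) ℂ) b).coeff i)‖)
    (Continuous.continuousOn (continuous_const.add (continuous_finsetSum _ fun i _ =>
      (MvPolynomial.continuous_eval _).norm)))
  refine ⟨|c|, abs_nonneg c, fun ψ hψ => ?_⟩
  have h0 : ((minpoly (MvPolynomial (Fin d) ℂ) b).map (MvPolynomial.eval (base ψ : Fin d → ℂ))).eval (ψ b) = 0 := by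
    rw [← apply_aeval, minpoly.aeval, map_zero]
  refine (norm_le_of_root (hm.map _) h0).trans ?_
  rw [hm.natDegree_map]
  simp only [coeff_map]
  exact ((le_abs_self _).trans (hc (base ψ) (by rw [Metric.mem_closedBall, dist_eq_norm]; exact hψ))).trans
    (le_abs_self c)

theorem exists_bound_map (t₀ : Fin d → ℂ) {y : A}
    (hy : y ∈ (pointIdeal t₀).map (algebraMap (MvPolynomial (Fin d) ℂ) A)) :
    ∃ B : ℝ, 0 ≤ B ∧ ∀ ψ : A →ₐ[ℂ] ℂ, ‖(base ψ : Fin d → ℂ) - t₀‖ ≤ 1 →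
      ‖ψ y‖ ≤ B * ‖(base ψ : Fin d → ℂ) - t₀‖ := by
  rw [pointIdeal_eq_span, Ideal.map_span, ← Set.range_comp, Ideal.mem_span_range_iff_exists_fun] at hy
  obtain ⟨c, rfl⟩ := hy
  choose B hB0 hB using fun i => exists_bound t₀ (c i)
  refine ⟨∑ i, B i, Finset.sum_nonneg fun i _ => hB0 i, fun ψ hψ => ?_⟩
  rw [map_sum, Finset.sum_mul]
  refine (norm_sum_le _ _).trans (Finset.sum_le_sum fun i _ => ?_)
  rw [map_mul, Function.comp_apply, apply_algebraMap, norm_mul, map_sub, MvPolynomial.eval_X, MvPolynomial.eval_C]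
  exact mul_le_mul (hB i ψ hψ) (norm_le_pi_norm ((base ψ : Fin d → ℂ) - t₀) i) (norm_nonneg _) (hB0 i)

/-- A separating element of a fibre and bounds on functions vanishing on it. -/
theorem exists_separating (χ : A →ₐ[ℂ] ℂ) :
    ∃ (e₀ : A) (N : ℕ), χ e₀ = 1 ∧ 0 < N ∧ ∀ y : A, (y = e₀ * (1 - e₀) ∨ ∃ b, χ b = 0 ∧ y = b * e₀) →
      ∃ B : ℝ, 0 ≤ B ∧ ∀ ψ : A →ₐ[ℂ] ℂ, ‖(base ψ : Fin d → ℂ) - base χ‖ ≤ 1 →
        ‖ψ y‖ ^ N ≤ B * ‖(base ψ : Fin d → ℂ) - base χ‖ := by
  classical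
  have : IsNoetherianRing A := isNoetherian_of_tower (MvPolynomial (Fin d) ℂ)
    (isNoetherian_of_isNoetherianRing_of_finite (MvPolynomial (Fin d) ℂ) A)
  set T := (pointIdeal (base χ : Fin d → ℂ)).map (algebraMap (MvPolynomial (Fin d) ℂ) A)
  have hmax : ∀ q : Ideal A, q.IsPrime → T ≤ q → q.IsMaximal := fun q hq hle => by
    refine Ideal.isMaximal_of_isIntegral_of_isMaximal_comap (R := MvPolynomial (Fin d) ℂ) q ?_
    have h1 : RingHom.ker (MvPolynomial.eval (base χ : Fin d → ℂ)) ≤ q.comap (algebraMap (MvPolynomial (Fin d) ℂ) A) :=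
      (ker_eval_le _).trans (Ideal.map_le_iff_le_comap.mp hle)
    have hm : (RingHom.ker (MvPolynomial.eval (base χ : Fin d → ℂ))).IsMaximal :=
      RingHom.ker_isMaximal_of_surjective _ fun c => ⟨MvPolynomial.C c, MvPolynomial.eval_C c⟩
    rw [← hm.eq_of_le (Ideal.IsPrime.ne_top inferInstance) h1]
    exact hm
  have hTχ : T ≤ RingHom.ker χ := by
    refine Ideal.map_le_iff_le_comap.mpr ?_
    rw [pointIdeal_eq_span, Ideal.span_le]
    rintro _ ⟨i, rfl⟩
    simp [apply_algebraMap]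
  have hfin := (Ideal.finite_minimalPrimes_of_isNoetherianRing A T)
  let S := hfin.toFinset.filter (· ≠ RingHom.ker χ)
  have hsep : ∀ q ∈ S, ∃ a ∈ q, χ a = 1 := fun q hq => by
    obtain ⟨hqm, hne⟩ := Finset.mem_filter.mp hq
    have hqm := hfin.mem_toFinset.mp hqm
    have hqM := hmax q hqm.1.1 hqm.1.2
    have : ¬ q ≤ RingHom.ker χ := fun hle => hne (hqM.eq_of_le (RingHom.ker_ne_top _) hle)
    obtain ⟨a, ha, hna⟩ := SetLike.not_le_iff_exists.mp this
    refine ⟨algebraMap ℂ A (χ a)⁻¹ * a, Ideal.mul_mem_left _ _ ha, ?_⟩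
    rw [map_mul, AlgHom.commutes]
    exact inv_mul_cancel₀ hna
  choose! ea hea heχ using hsep
  obtain ⟨N, hN⟩ := Ideal.exists_radical_pow_le_of_fg T ((isNoetherianRing_iff_ideal_fg A).mp inferInstance _)
  refine ⟨∏ q ∈ S, ea q, N + 1, by rw [map_prod]; exact Finset.prod_eq_one heχ, Nat.succ_pos N, fun y hy => ?_⟩
  have hrad : y ∈ T.radical := by
    rw [← Ideal.sInf_minimalPrimes, Submodule.mem_sInf]
    intro q hq
    have := hq.1.1
    by_cases hqχ : q = RingHom.ker χ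
    · subst hqχ
      rcases hy with rfl | ⟨b, hb, rfl⟩
      · rw [RingHom.mem_ker, map_mul, map_sub, map_one, map_prod, Finset.prod_eq_one heχ, sub_self, mul_zero]
      · rw [RingHom.mem_ker, map_mul, hb, zero_mul]
    · have hmem : ∏ q ∈ S, ea q ∈ q := by
        have hqS : q ∈ S := Finset.mem_filter.mpr ⟨hfin.mem_toFinset.mpr hq, hqχ⟩
        rw [← Finset.mul_prod_erase S ea hqS]
        exact Ideal.mul_mem_right _ _ (hea q hqS)
      rcases hy with rfl | ⟨b, hb, rfl⟩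
      · exact Ideal.mul_mem_right _ _ hmem
      · exact Ideal.mul_mem_left _ _ hmem
  have hyT : y ^ (N + 1) ∈ T := by
    rw [pow_succ]
    exact Ideal.mul_mem_right _ _ (hN (Ideal.pow_mem_pow hrad N))
  obtain ⟨B, hB0, hB⟩ := exists_bound_map (base χ : Fin d → ℂ) hyT
  exact ⟨B, hB0, fun ψ hψ => by rw [← norm_pow, ← map_pow]; exact hB ψ hψ⟩

/-- Near a point, a small function times an approximate idempotent is small on the whole fibre. -/
theorem exists_mul_small {ι : Type} [Fintype ι] [Nonempty ι] (s : ι → A) (χ : A →ₐ[ℂ] ℂ) :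
    ∃ N : ℕ, 0 < N ∧ ∀ (k : ℕ) (a : A), 0 < k → Small s χ a (N * k) →
      ∃ (e : A) (δ C : ℝ), χ e = 1 ∧ 0 < δ ∧ ∀ ψ : A →ₐ[ℂ] ℂ, ‖(base ψ : Fin d → ℂ) - base χ‖ < δ →
        ‖ψ (e * a)‖ ≤ C * ‖(base ψ : Fin d → ℂ) - base χ‖ ^ k := by
  obtain ⟨e₀, N, he₀, hN, hb⟩ := exists_separating (d := d) χ
  refine ⟨N, hN, fun k a hk ⟨ρ, C, hρ, hC⟩ => ?_⟩
  set K := N * k
  have hK : 0 < K := Nat.mul_pos hN hk
  obtain ⟨e', he'⟩ : e₀ ^ K ∣ 1 - (1 - e₀ ^ K) ^ K := by
    simpa using sub_dvd_pow_sub_pow (1 : A) (1 - e₀ ^ K) K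
  set e := 1 - (1 - e₀ ^ K) ^ K
  obtain ⟨B₀, hB₀, hB₀'⟩ := hb _ (Or.inl rfl)
  choose B₁ hB₁ hB₁' using fun i => hb ((s i - algebraMap ℂ A (χ (s i))) * e₀)
    (Or.inr ⟨_, by rw [map_sub, AlgHom.commutes]; exact sub_self _, rfl⟩)
  obtain ⟨Ba, hBa, hBa'⟩ := exists_bound (base χ : Fin d → ℂ) a
  obtain ⟨Be, hBe, hBe'⟩ := exists_bound (base χ : Fin d → ℂ) e
  obtain ⟨Be₁, hBe₁, hBe₁'⟩ := exists_bound (base χ : Fin d → ℂ) e'
  set B := ∑ i, B₁ i
  have hB : 0 ≤ B := Finset.sum_nonneg fun i _ => hB₁ i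
  have hρN : 0 < ρ ^ N / (2 ^ N * B + 1) := by positivity
  let C₁ : ℝ := 1 + (Be₁ * Ba) ^ N * (2 ^ N * B₀) ^ K + (Be * |C|) ^ N * (2 ^ N * B) ^ K
  refine ⟨e, min 1 (ρ ^ N / (2 ^ N * B + 1)), C₁, by simp [e, he₀, zero_pow hK.ne'], lt_min one_pos hρN,
    fun ψ hψ => ?_⟩
  set τ := ‖(base ψ : Fin d → ℂ) - base χ‖
  have hτ1 : τ ≤ 1 := (hψ.trans_le (min_le_left _ _)).le
  have hτ0 : 0 ≤ τ := norm_nonneg _
  have hC₁ : 1 ≤ C₁ ∧ (Be₁ * Ba) ^ N * (2 ^ N * B₀) ^ K ≤ C₁ ∧ (Be * |C|) ^ N * (2 ^ N * B) ^ K ≤ C₁ := by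
    have h1 : 0 ≤ (Be₁ * Ba) ^ N * (2 ^ N * B₀) ^ K := by positivity
    have h2 : 0 ≤ (Be * |C|) ^ N * (2 ^ N * B) ^ K := by positivity
    simp only [C₁]
    refine ⟨?_, ?_, ?_⟩ <;> linarith
  suffices hgoal : ‖ψ (e * a)‖ ^ N ≤ C₁ * (τ ^ k) ^ N by
    refine (pow_le_pow_iff_left₀ (norm_nonneg _)
      (mul_nonneg (le_trans zero_le_one hC₁.1) (pow_nonneg hτ0 k)) hN.ne').mp (hgoal.trans ?_)
    rw [mul_pow]
    gcongr
    exact le_self_pow₀ hC₁.1 hN.ne'
  rw [← pow_mul, mul_comm k N]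
  rcases lt_or_ge ‖ψ e₀‖ (1 / 2) with h0 | h0
  · have h1 : 1 / 2 ≤ ‖1 - ψ e₀‖ := by
      have := norm_sub_norm_le (1 : ℂ) (ψ e₀)
      rw [norm_one] at this; linarith
    have h2 : ‖ψ e₀‖ ^ N ≤ 2 ^ N * B₀ * τ := by
      have h3 := hB₀' ψ hτ1
      rw [map_mul, map_sub, map_one, norm_mul, mul_pow] at h3
      have h4 : (1 / 2 : ℝ) ^ N ≤ ‖1 - ψ e₀‖ ^ N := pow_le_pow_left₀ (by norm_num) h1 N
      calc ‖ψ e₀‖ ^ N = 2 ^ N * (‖ψ e₀‖ ^ N * (1 / 2) ^ N) := by
            rw [mul_left_comm, ← mul_pow]; norm_num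
        _ ≤ 2 ^ N * (B₀ * τ) := mul_le_mul_of_nonneg_left
            ((mul_le_mul_of_nonneg_left h4 (by positivity)).trans h3) (by positivity)
        _ = _ := by ring
    have h5 : ‖ψ (e * a)‖ ≤ ‖ψ e₀‖ ^ K * (Be₁ * Ba) := by
      rw [map_mul, he', map_mul, map_pow, norm_mul, norm_mul, norm_pow, mul_assoc]
      gcongr
      exacts [hBe₁' ψ hτ1, hBa' ψ hτ1]
    calc ‖ψ (e * a)‖ ^ N ≤ (‖ψ e₀‖ ^ K * (Be₁ * Ba)) ^ N := pow_le_pow_left₀ (norm_nonneg _) h5 N
      _ = (Be₁ * Ba) ^ N * (‖ψ e₀‖ ^ N) ^ K := by rw [mul_pow, ← pow_mul, ← pow_mul, mul_comm N K]; ring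
      _ ≤ (Be₁ * Ba) ^ N * (2 ^ N * B₀ * τ) ^ K := by gcongr
      _ = (Be₁ * Ba) ^ N * (2 ^ N * B₀) ^ K * τ ^ K := by rw [mul_pow _ τ]; ring
      _ ≤ C₁ * τ ^ K := mul_le_mul_of_nonneg_right hC₁.2.1 (by positivity)
  · obtain ⟨i, -, hi⟩ := Finset.exists_max_image Finset.univ (fun i => ‖ψ (s i) - χ (s i)‖) Finset.univ_nonempty
    set D := ‖fun i => ψ (s i) - χ (s i)‖
    have hD : D = ‖ψ (s i) - χ (s i)‖ :=
      le_antisymm ((pi_norm_le_iff_of_nonneg (norm_nonneg _)).mpr fun j => hi j (Finset.mem_univ j))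
        (norm_le_pi_norm (fun i => ψ (s i) - χ (s i)) i)
    have h3 := hB₁' i ψ hτ1
    rw [map_mul, map_sub, AlgHom.commutes, norm_mul, mul_pow] at h3
    change ‖ψ (s i) - χ (s i)‖ ^ N * _ ≤ _ at h3
    rw [← hD] at h3
    have h4 : D ^ N ≤ 2 ^ N * B * τ := by
      have h6 : (1 / 2 : ℝ) ^ N ≤ ‖ψ e₀‖ ^ N := pow_le_pow_left₀ (by norm_num) h0 N
      calc D ^ N = 2 ^ N * (D ^ N * (1 / 2) ^ N) := by rw [mul_left_comm, ← mul_pow]; norm_num
        _ ≤ 2 ^ N * (B₁ i * τ) := mul_le_mul_of_nonneg_left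
            ((mul_le_mul_of_nonneg_left h6 (pow_nonneg (norm_nonneg _) N)).trans h3) (by positivity)
        _ ≤ 2 ^ N * (B * τ) := by
            gcongr
            exact Finset.single_le_sum (fun j _ => hB₁ j) (Finset.mem_univ i)
        _ = _ := by ring
    have hDρ : D < ρ := by
      refine lt_of_pow_lt_pow_left₀ N hρ.le ?_
      have h7 : τ * (2 ^ N * B + 1) < ρ ^ N := (lt_div_iff₀ (by positivity)).mp (hψ.trans_le (min_le_right _ _))
      linarith
    have h5 : ‖ψ (e * a)‖ ≤ Be * |C| * D ^ K := by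
      rw [map_mul, norm_mul, mul_assoc]
      exact mul_le_mul (hBe' ψ hτ1) ((hC ψ hDρ).trans (mul_le_mul_of_nonneg_right (le_abs_self C)
        (pow_nonneg (norm_nonneg _) K))) (norm_nonneg _) hBe
    calc ‖ψ (e * a)‖ ^ N ≤ (Be * |C| * D ^ K) ^ N := pow_le_pow_left₀ (norm_nonneg _) h5 N
      _ = (Be * |C|) ^ N * (D ^ N) ^ K := by rw [mul_pow, ← pow_mul, ← pow_mul, mul_comm N K]
      _ ≤ (Be * |C|) ^ N * (2 ^ N * B * τ) ^ K := by gcongr
      _ = (Be * |C|) ^ N * (2 ^ N * B) ^ K * τ ^ K := by rw [mul_pow _ τ]; ring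
      _ ≤ C₁ * τ ^ K := mul_le_mul_of_nonneg_right hC₁.2.2 (by positivity)

variable [IsDomain A] [FaithfulSMul (MvPolynomial (Fin d) ℂ) A]

/-- A function small on all points near a fibre lies, up to a fixed factor, in a high power of the ideal of
the fibre. -/
theorem exists_mul_mem_map_pow (t₀ : Fin d → ℂ) :
    ∃ H : A, H ≠ 0 ∧ ∀ (b : A) (k : ℕ) (δ C : ℝ), 0 < δ →
      (∀ ψ : A →ₐ[ℂ] ℂ, ‖(base ψ : Fin d → ℂ) - t₀‖ < δ → ‖ψ b‖ ≤ C * ‖(base ψ : Fin d → ℂ) - t₀‖ ^ k) →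
      H * b ∈ ((pointIdeal t₀).map (algebraMap (MvPolynomial (Fin d) ℂ) A)) ^ k := by
  classical
  obtain ⟨α, h, hh, hgen, hsimple⟩ := exists_branched_cover (d := d) (A := A)
  let c : Cover d A := ⟨α, h, hh, hgen, hsimple⟩
  obtain ⟨G, hG⟩ := Module.Finite.fg_top (R := MvPolynomial (Fin d) ℂ) (M := A)
  have hgen' : ∀ b : A, ∃ (n : ℕ) (q : (MvPolynomial (Fin d) ℂ)[X]),
      algebraMap (MvPolynomial (Fin d) ℂ) A (h ^ n) * b = aeval α q := hgen
  choose n q hq using hgen'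
  set m := G.sup n
  have huni : ∀ b : A, ∃ p : (MvPolynomial (Fin d) ℂ)[X], algebraMap (MvPolynomial (Fin d) ℂ) A (h ^ m) * b = aeval α p := by
    intro b
    have hb : b ∈ Submodule.span (MvPolynomial (Fin d) ℂ) (G : Set A) := hG ▸ Submodule.mem_top
    induction hb using Submodule.span_induction with
    | mem x hx =>
      refine ⟨Polynomial.C (h ^ (m - n x)) * q x, ?_⟩
      rw [map_mul, aeval_C, ← hq x, ← mul_assoc, ← map_mul, ← pow_add, Nat.sub_add_cancel (Finset.le_sup hx)]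
    | zero => exact ⟨0, by simp⟩
    | add x y _ _ hx hy =>
      obtain ⟨p, hp⟩ := hx; obtain ⟨p', hp'⟩ := hy
      exact ⟨p + p', by rw [mul_add, hp, hp', map_add]⟩
    | smul r x _ hx =>
      obtain ⟨p, hp⟩ := hx
      exact ⟨r • p, by rw [mul_smul_comm, hp, map_smul]⟩
  set P := minpoly (MvPolynomial (Fin d) ℂ) α
  have hPm : P.Monic := minpoly.monic (Algebra.IsIntegral.isIntegral α)
  have hP0 : 0 < P.natDegree := minpoly.natDegree_pos (Algebra.IsIntegral.isIntegral α)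
  have hder : aeval α P.derivative ≠ 0 := by
    intro h0
    have hd0 : P.derivative ≠ 0 := fun h1 => hP0.ne' (Polynomial.derivative_eq_zero.mp h1)
    exact (minpoly.IsIntegrallyClosed.degree_le_of_ne_zero hd0 h0).not_gt (degree_derivative_lt hPm.ne_zero)
  refine ⟨algebraMap (MvPolynomial (Fin d) ℂ) A (h ^ m) * aeval α P.derivative, mul_ne_zero
    ((map_ne_zero_iff _ (FaithfulSMul.algebraMap_injective _ _)).mpr (pow_ne_zero m hh)) hder,
    fun b k δ C hδ hb => ?_⟩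
  obtain ⟨p, hp⟩ := huni b
  set Q := (p * P.derivative) %ₘ P
  have haQ : algebraMap (MvPolynomial (Fin d) ℂ) A (h ^ m) * aeval α P.derivative * b = aeval α Q := by
    rw [aeval_modByMonic_eq_self_of_root (minpoly.aeval _ α), map_mul, ← hp]; ring
  set Dg := P.natDegree
  obtain ⟨Mc, hMc⟩ := (isCompact_closedBall t₀ 1).exists_bound_of_continuousOn
    (f := fun x => ‖MvPolynomial.eval x h‖ ^ m *
      (Dg * (1 + (1 + ∑ i ∈ Finset.range Dg, ‖MvPolynomial.eval x (P.coeff i)‖)) ^ Dg))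
    (Continuous.continuousOn (((MvPolynomial.continuous_eval h).norm.pow m).mul (continuous_const.mul
      ((continuous_const.add (continuous_const.add (continuous_finsetSum _ fun i _ =>
        (MvPolynomial.continuous_eval _).norm))).pow Dg))))
  have hcoef : ∀ j, Q.coeff j ∈ pointIdeal t₀ ^ k := fun j => by
    refine mem_pointIdeal_pow_of_growth t₀ _ k (|Mc| * |C|) ?_
    have hon : ∀ t, MvPolynomial.eval t h ≠ 0 → ‖t - t₀‖ < min δ 1 →
        ‖MvPolynomial.eval t (Q.coeff j)‖ ≤ |Mc| * |C| * ‖t - t₀‖ ^ k := by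
      intro t ht htd
      set Z := (fibrePoly α t).roots.toFinset
      have hcard : Z.card = Dg := by
        rw [Multiset.toFinset_card_of_nodup (c.nodup_roots ht), ← (IsAlgClosed.splits _).natDegree_eq_card_roots,
          natDegree_fibrePoly]
      have hroot : ∀ z ∈ Z, (fibrePoly α t).eval z = 0 := fun z hz =>
        (mem_roots'.mp (Multiset.mem_toFinset.mp hz)).2
      have : Nonempty (A →ₐ[ℂ] ℂ) := by
        obtain ⟨z, hz⟩ := Finset.card_pos.mp (hcard.symm ▸ hP0)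
        obtain ⟨ψ, -⟩ := exists_point α t z (hroot z hz)
        exact ⟨ψ⟩
      choose! Ψ hΨb hΨa using fun z hz => exists_point α t z (hroot z hz)
      have hnodal : fibrePoly α t = Lagrange.nodal Z id := by
        rw [Lagrange.nodal_eq, Finset.prod_eq_multiset_prod, Multiset.toFinset_val, (c.nodup_roots ht).dedup]
        exact (IsAlgClosed.splits _).eq_prod_roots_of_monic (monic_fibrePoly _ _)
      let W : ℂ[X] := ∑ z ∈ Z, Polynomial.C (MvPolynomial.eval t h ^ m * Ψ z b) *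
        ∏ z' ∈ Z.erase z, (X - Polynomial.C z')
      have hW : Q.map (MvPolynomial.eval t) = W := by
        refine Polynomial.eq_of_degree_sub_lt_of_eval_finset_eq Z ?_ fun z hz => ?_
        · refine (degree_sub_le _ _).trans_lt (max_lt ?_ ?_)
          · rw [Polynomial.map_modByMonic _ hPm, hcard]
            refine (degree_modByMonic_lt _ (hPm.map _)).trans_le ?_
            rw [degree_eq_natDegree (hPm.map _).ne_zero, hPm.natDegree_map]
          · refine (degree_sum_le _ _).trans_lt ((Finset.sup_lt_iff (WithBot.bot_lt_coe _)).mpr fun z hz => ?_)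
            refine (degree_mul_le _ _).trans_lt ((add_le_add degree_C_le le_rfl).trans_lt ?_)
            rw [zero_add, degree_prod, Finset.sum_congr rfl fun z' _ => degree_X_sub_C z', Finset.sum_const,
              Finset.card_erase_of_mem hz, nsmul_one, hcard]
            exact_mod_cast Nat.sub_lt hP0 one_pos
        · have hb1 := congrArg (Ψ z) hp
          rw [map_mul, apply_algebraMap, apply_aeval, hΨb z hz, hΨa z hz, map_pow] at hb1
          simp only [W, eval_finsetSum, eval_mul, eval_C, eval_prod, eval_sub, eval_X]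
          rw [Finset.sum_eq_single z (fun w hw hwz => by
            rw [Finset.prod_eq_zero (Finset.mem_erase.mpr ⟨hwz.symm, hz⟩) (sub_self z), mul_zero])
            (fun h => absurd hz h), hb1]
          have hmod : (Q.map (MvPolynomial.eval t)).eval z = ((p * P.derivative).map (MvPolynomial.eval t)).eval z := by
            rw [Polynomial.map_modByMonic _ hPm, modByMonic_eq_sub_mul_div, eval_sub, eval_mul]
            have h0 : (P.map (MvPolynomial.eval t)).eval z = 0 := hroot z hz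
            rw [h0, zero_mul, sub_zero]
          rw [hmod, Polynomial.map_mul, eval_mul, ← derivative_map]
          congr 1
          show (fibrePoly α t).derivative.eval z = _
          rw [hnodal, show z = id z from rfl, Lagrange.eval_nodal_derivative_eval_node_eq hz, Lagrange.nodal_eq,
            eval_prod]
          simp
      rw [← coeff_map, hW, finsetSum_coeff]
      have hroots : ∀ z ∈ Z, ‖z‖ ≤ 1 + ∑ i ∈ Finset.range Dg, ‖MvPolynomial.eval t (P.coeff i)‖ := fun z hz => by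
        have := norm_le_of_root (monic_fibrePoly α t) (hroot z hz)
        rw [natDegree_fibrePoly] at this
        simpa only [fibrePoly, coeff_map] using this
      have hM0 : 0 ≤ 1 + ∑ i ∈ Finset.range Dg, ‖MvPolynomial.eval t (P.coeff i)‖ := by positivity
      have hterm : ∀ z ∈ Z, ‖(Polynomial.C (MvPolynomial.eval t h ^ m * Ψ z b) *
          ∏ z' ∈ Z.erase z, (X - Polynomial.C z')).coeff j‖ ≤ ‖MvPolynomial.eval t h‖ ^ m * (|C| * ‖t - t₀‖ ^ k) *
            (1 + (1 + ∑ i ∈ Finset.range Dg, ‖MvPolynomial.eval t (P.coeff i)‖)) ^ Dg := fun z hz => by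
        rw [coeff_C_mul, norm_mul, norm_mul, norm_pow]
        refine mul_le_mul (mul_le_mul_of_nonneg_left ?_ (by positivity)) ?_ (norm_nonneg _) (by positivity)
        · have := hb (Ψ z) (by rw [hΨb z hz]; exact htd.trans_le (min_le_left _ _))
          rw [hΨb z hz] at this
          exact this.trans (mul_le_mul_of_nonneg_right (le_abs_self C) (by positivity))
        · refine (norm_coeff_prod_le _ (fun z => z) hM0 (fun w hw => hroots w (Finset.mem_of_mem_erase hw)) j).trans ?_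
          refine pow_le_pow_right₀ (by linarith) ?_
          rw [← hcard]
          exact Finset.card_erase_le
      refine (norm_sum_le _ _).trans ((Finset.sum_le_sum hterm).trans ?_)
      rw [Finset.sum_const, hcard, nsmul_eq_mul]
      have h1 := (le_abs_self _).trans (hMc t (by rw [Metric.mem_closedBall, dist_eq_norm]; exact (htd.trans_le (min_le_right _ _)).le))
      calc _ = (‖MvPolynomial.eval t h‖ ^ m * (Dg * (1 + (1 + ∑ i ∈ Finset.range Dg,
            ‖MvPolynomial.eval t (P.coeff i)‖)) ^ Dg)) * (|C| * ‖t - t₀‖ ^ k) := by ring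
        _ ≤ |Mc| * (|C| * ‖t - t₀‖ ^ k) :=
            mul_le_mul_of_nonneg_right (h1.trans (le_abs_self Mc)) (by positivity)
        _ = _ := by ring
    have hopen : IsOpen {t : Fin d → ℂ | ‖t - t₀‖ < min δ 1} := isOpen_lt (by fun_prop) continuous_const
    have hsub : {t : Fin d → ℂ | ‖t - t₀‖ < min δ 1} ⊆
        {t | ‖MvPolynomial.eval t (Q.coeff j)‖ ≤ |Mc| * |C| * ‖t - t₀‖ ^ k} := by
      refine ((dense_eval_ne_zero hh).open_subset_closure_inter hopen).trans
        (closure_minimal (fun t ht => hon t ht.2 ht.1) ?_)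
      exact isClosed_le ((MvPolynomial.continuous_eval _).norm) (by fun_prop)
    exact eventually_of_mem (hopen.mem_nhds (by simpa using lt_min hδ one_pos)) hsub
  rw [haQ, aeval_eq_sum_range, ← Ideal.map_pow]
  refine sum_mem fun i _ => ?_
  rw [Algebra.smul_def]
  exact Ideal.mul_mem_right _ _ (Ideal.mem_map_of_mem _ (hcoef i))

/-- On an affine variety a function vanishing to high order at a point lies in a high power of its ideal. -/
theorem exists_mul_mem_pow_of_finite (d : ℕ) {A : Type} [CommRing A] [Algebra ℂ A]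
    [Algebra (MvPolynomial (Fin d) ℂ) A] [IsScalarTower ℂ (MvPolynomial (Fin d) ℂ) A]
    [Module.Finite (MvPolynomial (Fin d) ℂ) A] [IsDomain A] [FaithfulSMul (MvPolynomial (Fin d) ℂ) A] {ι : Type} [Fintype ι] [Nonempty ι] (s : ι → A) (χ : A →ₐ[ℂ] ℂ)
    (k : ℕ) : ∃ K : ℕ, ∀ a, Small s χ a K → ∃ e : A, χ e ≠ 0 ∧ e * a ∈ RingHom.ker χ ^ k := by
  have : IsNoetherianRing A := isNoetherian_of_tower (MvPolynomial (Fin d) ℂ)
    (isNoetherian_of_isNoetherianRing_of_finite (MvPolynomial (Fin d) ℂ) A)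
  obtain ⟨N, hN, hsmall⟩ := exists_mul_small (d := d) s χ
  obtain ⟨H, hH, hmem⟩ := exists_mul_mem_map_pow (d := d) (A := A) (base χ)
  obtain ⟨c, hc⟩ := (RingHom.ker χ).exists_pow_inf_eq_pow_smul (M := A) (Submodule.span A {H})
  refine ⟨N * (k + c + 1), fun a ha => ?_⟩
  obtain ⟨e, δ, C, he, hδ, hbd⟩ := hsmall (k + c + 1) a (Nat.succ_pos _) ha
  refine ⟨e, by rw [he]; exact one_ne_zero, ?_⟩
  have hle : (pointIdeal (base χ : Fin d → ℂ)).map (algebraMap (MvPolynomial (Fin d) ℂ) A) ≤ RingHom.ker χ := by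
    rw [pointIdeal_eq_span, Ideal.map_le_iff_le_comap, Ideal.span_le]
    rintro _ ⟨i, rfl⟩
    simp [apply_algebraMap]
  have h1 : H * (e * a) ∈ (RingHom.ker χ ^ (k + c + 1) • (⊤ : Submodule A A)) ⊓ Submodule.span A {H} := by
    refine ⟨?_, Submodule.mem_span_singleton.mpr ⟨e * a, mul_comm _ _⟩⟩
    rw [smul_eq_mul, Ideal.mul_top]
    exact Ideal.pow_right_mono hle _ (hmem (e * a) _ δ C hδ hbd)
  rw [hc _ (by omega)] at h1
  have h2 : H * (e * a) ∈ RingHom.ker χ ^ (k + c + 1 - c) • Submodule.span A {H} :=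
    Submodule.smul_mono le_rfl inf_le_right h1
  rw [smul_eq_mul] at h2
  obtain ⟨y, hy, hye⟩ := Ideal.mem_mul_span_singleton.mp h2
  rw [mul_comm y H] at hye
  rw [← mul_left_cancel₀ hH hye]
  exact Ideal.pow_le_pow_right (by omega) hy

end Groth.L02.An
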